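import Mathlib
import Cfsg.Agent.Lib.QuadPair.Classes
import Cfsg.Agent.Lib.Coprime.Action
import Cfsg.Agent.Lib.OddOrder.Solvable

/-!
Coprime groups of automorphisms fixing a quadratic root subgroup fix an opposite one.

An opposite pair `(a, t)` with `a t a = a`, `t a t = t` has a torus element acting as `l`, `1`, `l⁻¹`
on the layers of `0 ≤ range a ≤ ker a ≤ M`; these torus elements form one orbit under the group of
elements trivial on the layers, and each determines its opposite root subgroup.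
-/

set_option autoImplicit false
set_option linter.unusedSectionVars false
set_option linter.style.haveILetI false

open Cfsg CfsgLib.RootSub.Unip CfsgLib.QuadPair

namespace CfsgLib.CoprimeQuad

universe u v

variable {k : Type u} [Field k] {M : Type v} [AddCommGroup M] [Module k M]
variable {G : Subgroup (LinearMap.GeneralLinearGroup k M)}

local notation "End'" => Module.End k M
local notation "GLM" => LinearMap.GeneralLinearGroup k M

/-- Square zero elements, each a generalized inverse of the other. -/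
structure Dual (a t : Module.End k M) : Prop where
  sqa : a * a = 0
  sqt : t * t = 0
  ata : a * t * a = a
  tat : t * a * t = t

theorem Dual.symm {a t : End'} (h : Dual a t) : Dual t a := ⟨h.sqt, h.sqa, h.tat, h.ata⟩

theorem Dual.cjE {a t : End'} (h : Dual a t) (g : GLM) :
    Dual (CfsgLib.QuadPair.cjE g a) (CfsgLib.QuadPair.cjE g t) :=
  ⟨cjE_sq g h.sqa, cjE_sq g h.sqt, by rw [← cjE_mul, ← cjE_mul, h.ata],
    by rw [← cjE_mul, ← cjE_mul, h.tat]⟩

theorem sum_identity {x y : End'} (hx : x * x = 0) (hy : y * y = 0)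
    (h : (1 + x) * (1 - y) * (1 + x) = (1 - y) * (1 + x) * (1 - y)) :
    x + y = x * y * x + y * x * y := by
  have e1 : (1 + x) * (1 - y) * (1 + x) = 1 + x + x + x * x - y - x * y - y * x - x * y * x := by
    noncomm_ring
  have e2 : (1 - y) * (1 + x) * (1 - y) = 1 + x - y - y + y * y - x * y - y * x + y * x * y := by
    noncomm_ring
  rw [e1, e2, hx, hy, add_zero, add_zero] at h
  linear_combination (norm := abel) h

variable [FiniteDimensional k M]

/-- The lower unit of an opposed pair is dual to its upper unit. -/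
theorem dual_tau {a t : End'} (ha : Min G a) (ht : Min G t) (O : Opposed G a t) :
    (letI := O.fieldK; Dual a (O.τ 1)) := by
  have ho := O.opp
  let _ := O.fieldK
  let _ := O.algK
  set t' := O.τ 1 with ht'
  have hsq : t' * t' = 0 := (O.τ_mem 1).1.1
  have e : el a * el (-t') * el a = el (-t') * el a * el (-t') := by
    rw [← O.σ_one, ht', ← map_neg, ← O.Φ_upm, ← O.Φ_lom, ← map_mul, ← map_mul, ← map_mul, ← map_mul]
    congr 1
    refine sl_ext ?_ ?_ ?_ ?_ <;> simp [mul_entry, upm_coe, lom_coe]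
  have e' : (1 + a) * (1 - t') * (1 + a) = (1 - t') * (1 + a) * (1 - t') := by
    have := congrArg (fun g : GLM => (g : End')) e
    simp only [Units.val_mul, coe_el ha.sq, coe_el (neg_sq hsq)] at this
    simpa [sub_eq_add_neg] using this
  have hsum := sum_identity ha.sq hsq e'
  have hmem : ∀ v, (a * t' * a - a) v ∈ LinearMap.range a ⊓ LinearMap.range t := fun v => by
    refine ⟨?_, ?_⟩
    · rw [SetLike.mem_coe, LinearMap.sub_apply, Module.End.mul_apply, Module.End.mul_apply]
      exact sub_mem (LinearMap.mem_range_self _ _) (LinearMap.mem_range_self _ _)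
    · have e3 : a * t' * a - a = t' - t' * a * t' := by
        linear_combination (norm := abel) -hsum
      rw [SetLike.mem_coe, e3, LinearMap.sub_apply, Module.End.mul_apply, Module.End.mul_apply]
      exact sub_mem ((O.τ_mem 1).2.2 (LinearMap.mem_range_self _ _))
        ((O.τ_mem 1).2.2 (LinearMap.mem_range_self _ _))
  have h1 : a * t' * a = a := sub_eq_zero.mp (LinearMap.ext fun v => by
    have := hmem v
    rwa [ho.inter ht.sq, Submodule.mem_bot] at this)
  have h4 : t' * a * t' = t' := by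
    rw [h1] at hsum
    exact (add_left_cancel hsum).symm
  exact ⟨ha.sq, hsq, h1, h4⟩

/-- An opposite pair contains a dual one. -/
theorem exists_dual (h2 : (2 : k) ≠ 0) (h3 : Nat.card k ≠ 3) {a t : End'} (ha : Min G a)
    (ht : Min G t) (ho : Opp a t) : ∃ t' ∈ cls G ht.sq, t' ≠ 0 ∧ Dual a t' := by
  obtain ⟨O⟩ := opposed h2 h3 ha ht fun h => (nilp_iff h2 h3 ha ht).mp h ho
  let _ := O.fieldK
  have hd := dual_tau ha ht O
  refine ⟨O.τ 1, O.τ_mem 1, fun h => ha.2.1 ?_, hd⟩
  rw [← hd.ata, h, mul_zero, zero_mul]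

/-! ### Torus elements -/

/-- The idempotent complementary to `a t` and `t a`. -/
def e0 (a t : Module.End k M) : Module.End k M := 1 - a * t - t * a

theorem Dual.a_e0 {a t : End'} (h : Dual a t) : a * e0 a t = 0 := by
  rw [e0, mul_sub, mul_sub, mul_one, ← mul_assoc, ← mul_assoc, h.sqa, zero_mul, sub_zero, h.ata, sub_self]

theorem Dual.e0_a {a t : End'} (h : Dual a t) : e0 a t * a = 0 := by
  rw [e0, sub_mul, sub_mul, one_mul, h.ata, mul_assoc t, h.sqa, mul_zero, sub_zero, sub_self]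

theorem Dual.t_e0 {a t : End'} (h : Dual a t) : t * e0 a t = 0 := by
  rw [e0, mul_sub, mul_sub, mul_one, ← mul_assoc, ← mul_assoc, h.sqt, zero_mul, h.tat, sub_self,
    sub_zero]

theorem Dual.e0_t {a t : End'} (h : Dual a t) : e0 a t * t = 0 := by
  rw [e0, sub_mul, sub_mul, one_mul, mul_assoc a, h.sqt, mul_zero, h.tat, sub_zero, sub_self]

theorem Dual.e0_sq {a t : End'} (h : Dual a t) : e0 a t * e0 a t = e0 a t := by
  nth_rw 1 [e0]
  rw [sub_mul, sub_mul, one_mul, mul_assoc, mul_assoc, h.a_e0, h.t_e0, mul_zero, mul_zero, sub_zero,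
    sub_zero]

theorem Dual.word {a t : End'} (h : Dual a t) {c d : k} (hcd : c * d = 1) :
    (1 + c • a) * (1 - d • t) * (1 + c • a) = e0 a t + c • a - d • t := by
  have hdc : d * c = 1 := by rw [mul_comm, hcd]
  simp only [e0, mul_add, add_mul, mul_sub, sub_mul, mul_one, one_mul, smul_mul_assoc, mul_smul_comm,
    smul_add, smul_sub, smul_smul, h.sqa, h.ata, smul_zero, hcd, hdc, mul_one, one_smul]
  abel

/-- The torus element. -/
noncomputable def tor (a t : Module.End k M) (l : k) : LinearMap.GeneralLinearGroup k M :=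
  el (l • a) * el (-(l⁻¹ • t)) * el (l • a) * (el (-a) * el t * el (-a))

theorem coe_tor {a t : End'} (h : Dual a t) {l : k} (hl : l ≠ 0) :
    (tor a t l : End') = e0 a t + l • (a * t) + l⁻¹ • (t * a) := by
  have w1 := h.word (mul_inv_cancel₀ hl)
  have w2 := h.word (c := (-1 : k)) (d := -1) (by norm_num)
  simp only [neg_smul, one_smul, sub_neg_eq_add] at w2
  rw [tor]
  simp only [Units.val_mul, coe_el (smul_sq h.sqa l), coe_el (neg_sq (smul_sq h.sqt l⁻¹)),
    coe_el (neg_sq h.sqa), coe_el h.sqt]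
  rw [← sub_eq_add_neg (1 : End') (l⁻¹ • t), w1, w2]
  simp only [mul_add, add_mul, mul_sub, sub_mul, smul_mul_assoc, mul_smul_comm, mul_neg, smul_neg,
    h.sqa, h.sqt, h.e0_sq, h.a_e0, h.t_e0, h.e0_a, h.e0_t, smul_zero, neg_zero, add_zero, zero_add,
    sub_zero]
  abel

theorem tor_mem {a t : End'} (ha : a ∈ Sc G) (ht : t ∈ Sc G) (l : k) : tor a t l ∈ G := by
  have e : -(l⁻¹ • t) = (-l⁻¹) • t := (neg_smul _ _).symm
  rw [tor, e]
  exact mul_mem (mul_mem (mul_mem (ha.2 l) (ht.2 _)) (ha.2 l))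
    (mul_mem (mul_mem (el_mem (sc_neg ha)) (el_mem ht)) (el_mem (sc_neg ha)))

/-- The formula of a torus element. -/
def IsTorEnd (a t : Module.End k M) (l : k) (x : Module.End k M) : Prop :=
  x = e0 a t + l • (a * t) + l⁻¹ • (t * a)

theorem IsTorEnd.apply_range {a t : End'} (h : Dual a t) {l : k} {x : End'} (hx : IsTorEnd a t l x)
    {v : M} (hv : v ∈ LinearMap.range a) : x v = l • v := by
  obtain ⟨w, rfl⟩ := hv
  have e : x * a = l • a := by
    rw [hx, add_mul, add_mul, h.e0_a, smul_mul_assoc, smul_mul_assoc, h.ata, mul_assoc t, h.sqa]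
    simp
  exact DFunLike.congr_fun e w

theorem IsTorEnd.unique {a t a' t' : End'} (h : Dual a t) (h' : Dual a' t') {l : k} (hl : l ≠ 0)
    (hl2 : l ^ 2 ≠ 1) {x : End'} (hx : IsTorEnd a t l x) (hx' : IsTorEnd a' t' l x) :
    a * t = a' * t' ∧ t * a = t' * a' := by
  have hl1 : l ≠ 1 := fun e => hl2 (by rw [e, one_pow])
  have key : ∀ {a t : End'}, Dual a t → ∀ {l : k}, l ≠ 0 → ∀ {x : End'}, IsTorEnd a t l x →
      (x - 1) * (x - l⁻¹ • (1 : End')) = ((l - 1) * (l - l⁻¹)) • (a * t) := by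
    intro a t h l hl x hx
    have e1 : x - 1 = (l - 1) • (a * t) + (l⁻¹ - 1) • (t * a) := by
      rw [hx, e0, sub_smul, sub_smul, one_smul, one_smul]; abel
    have e2 : x - l⁻¹ • (1 : End') = (1 - l⁻¹) • e0 a t + (l - l⁻¹) • (a * t) := by
      have : (1 : End') = e0 a t + a * t + t * a := by rw [e0]; abel
      nth_rw 1 [this]
      rw [hx, sub_smul, sub_smul, one_smul, smul_add, smul_add]
      abel
    rw [e1, e2]
    simp only [add_mul, mul_add, smul_mul_assoc, mul_smul_comm, smul_smul, mul_assoc, h.t_e0, h.a_e0,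
      mul_zero, smul_zero, add_zero, zero_add]
    rw [← mul_assoc a a t, h.sqa, zero_mul, mul_zero, smul_zero, add_zero,
      show a * (t * (a * t)) = a * t by rw [← mul_assoc t a t, h.tat], smul_smul, mul_comm]
  have hflip : ∀ {a t : End'}, IsTorEnd a t l x → IsTorEnd t a l⁻¹ x := fun {a t} hx => by
    unfold IsTorEnd e0 at *
    rw [hx, inv_inv]; abel
  have hlinv : l⁻¹ ≠ 1 := fun e => hl1 (by rw [← inv_inv l, e, inv_one])
  have hll : l - l⁻¹ ≠ 0 := fun e => hl2 (by
    rw [sub_eq_zero] at e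
    rw [pow_two]
    nth_rw 2 [e]
    exact mul_inv_cancel₀ hl)
  constructor
  · have e := (key h hl hx).symm.trans (key h' hl hx')
    exact smul_right_injective _ (mul_ne_zero (sub_ne_zero.mpr hl1) hll) e
  · have e := (key h.symm (inv_ne_zero hl) (hflip hx)).symm.trans
      (key h'.symm (inv_ne_zero hl) (hflip hx'))
    refine smul_right_injective _ (mul_ne_zero (sub_ne_zero.mpr hlinv) ?_) e
    rw [inv_inv, ← neg_sub]
    exact neg_ne_zero.mpr hll

theorem IsTorEnd.one {a t : End'} : IsTorEnd a t 1 1 := by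
  rw [IsTorEnd, e0, inv_one, one_smul, one_smul]; abel

theorem IsTorEnd.mul {a t : End'} (h : Dual a t) {l m : k} {x y : End'} (hx : IsTorEnd a t l x)
    (hy : IsTorEnd a t m y) : IsTorEnd a t (l * m) (x * y) := by
  rw [IsTorEnd, hx, hy]
  simp only [mul_add, add_mul, smul_mul_assoc, mul_smul_comm, smul_smul, smul_zero, add_zero, zero_add,
    mul_inv, h.e0_sq]
  rw [← mul_assoc (e0 a t), h.e0_a, ← mul_assoc (e0 a t), h.e0_t, mul_assoc a t (e0 a t), h.t_e0,
    mul_assoc t a (e0 a t), h.a_e0, mul_assoc a t (t * a), ← mul_assoc t t a, h.sqt,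
    mul_assoc t a (a * t), ← mul_assoc a a t, h.sqa, show a * t * (a * t) = a * t by
      rw [← mul_assoc (a * t), h.ata], show t * a * (t * a) = t * a by rw [← mul_assoc (t * a), h.tat]]
  simp only [mul_zero, zero_mul, smul_zero, add_zero, zero_add]
  rw [smul_smul, smul_smul, mul_comm m l, mul_comm m⁻¹ l⁻¹]

/-- A group as the set it acts on by conjugation. -/
@[ext] structure Pt (X : Type*) where
  /-- The element. -/
  val : X

instance ptFinite (X : Type*) [Finite X] : Finite (Pt X) :=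
  Finite.of_injective Pt.val fun _ _ => Pt.ext

instance ptAction (X : Type*) [Group X] : MulAction X (Pt X) where
  smul x y := ⟨x * y.val * x⁻¹⟩
  one_smul y := Pt.ext (show 1 * y.val * 1⁻¹ = y.val by group)
  mul_smul a b y := Pt.ext (show a * b * y.val * (a * b)⁻¹ = a * (b * y.val * b⁻¹) * a⁻¹ by group)

theorem pt_smul {X : Type*} [Group X] (x : X) (y : Pt X) : (x • y).val = x * y.val * x⁻¹ := rfl

/-! ### Elements trivial on the layers -/

/-- `g` acts as `c`, `1`, `c⁻¹` on the layers of `0 ≤ R ≤ K ≤ M`. -/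
def Lay (R K : Submodule k M) (c : k) (g : LinearMap.GeneralLinearGroup k M) : Prop :=
  (∀ r ∈ R, (g : Module.End k M) r = c • r) ∧ (∀ v ∈ K, (g : Module.End k M) v - v ∈ R) ∧
    ∀ m : M, (g : Module.End k M) m - c⁻¹ • m ∈ K

variable {R K : Submodule k M}

theorem Lay.mapR {c : k} {g : GLM} (h : Lay R K c g) {r : M} (hr : r ∈ R) : (g : End') r ∈ R := by
  rw [h.1 r hr]; exact R.smul_mem _ hr

theorem Lay.mapK (hRK : R ≤ K) {c : k} {g : GLM} (h : Lay R K c g) {v : M} (hv : v ∈ K) :
    (g : End') v ∈ K := by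
  simpa using add_mem (hRK (h.2.1 v hv)) hv

theorem Lay.mul (hRK : R ≤ K) {c d : k} {g h : GLM} (hg : Lay R K c g) (hh : Lay R K d h) :
    Lay R K (c * d) (g * h) := by
  refine ⟨fun r hr => ?_, fun v hv => ?_, fun m => ?_⟩
  · rw [Units.val_mul, Module.End.mul_apply, hh.1 r hr, map_smul, hg.1 r hr, smul_smul, mul_comm]
  · rw [Units.val_mul, Module.End.mul_apply,
      show (g : End') ((h : End') v) - v = (g : End') ((h : End') v - v) + ((g : End') v - v) by
        rw [map_sub]; abel]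
    exact add_mem (hg.mapR (hh.2.1 v hv)) (hg.2.1 v hv)
  · rw [Units.val_mul, Module.End.mul_apply,
      show (g : End') ((h : End') m) - (c * d)⁻¹ • m =
        (g : End') ((h : End') m - d⁻¹ • m) + d⁻¹ • ((g : End') m - c⁻¹ • m) by
        rw [map_sub, map_smul, smul_sub, smul_smul, mul_inv, mul_comm]; abel]
    exact add_mem (hg.mapK hRK (hh.2.2 m)) (K.smul_mem _ (hg.2.2 m))

theorem lay_one : Lay R K 1 (1 : GLM) := by
  refine ⟨fun r _ => ?_, fun v _ => ?_, fun m => ?_⟩ <;> simp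

theorem Lay.inv {g : GLM} (h : Lay R K 1 g) (hRK : R ≤ K) : Lay R K 1 g⁻¹ := by
  have cancel : ∀ x : M, ((g⁻¹ : GLM) : End') ((g : End') x) = x := fun x => by
    rw [← Module.End.mul_apply, Units.inv_mul, Module.End.one_apply]
  have h1 : ∀ r ∈ R, ((g⁻¹ : GLM) : End') r = r := fun r hr => by
    conv_lhs => rw [← one_smul k r, ← h.1 r hr, cancel]
  have h2 : ∀ v ∈ K, ((g⁻¹ : GLM) : End') v - v ∈ R := fun v hv => by
    have e := h1 _ (h.2.1 v hv)
    rw [map_sub, cancel] at e
    rw [show ((g⁻¹ : GLM) : End') v - v = -((g : End') v - v) by rw [← e]; abel]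
    exact neg_mem (h.2.1 v hv)
  refine ⟨fun r hr => by rw [h1 r hr, one_smul], h2, fun m => ?_⟩
  have hd := h.2.2 m
  rw [inv_one, one_smul] at hd ⊢
  have e2 := h2 _ hd
  have e3 : ((g⁻¹ : GLM) : End') ((g : End') m - m) = m - ((g⁻¹ : GLM) : End') m := by
    rw [map_sub, cancel]
  rw [e3] at e2
  rw [show ((g⁻¹ : GLM) : End') m - m =
    -((m - ((g⁻¹ : GLM) : End') m - ((g : End') m - m)) + ((g : End') m - m)) by abel]
  exact neg_mem (add_mem (hRK e2) hd)

/-- The elements of `G` trivial on the layers. -/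
def layCore (G : Subgroup (LinearMap.GeneralLinearGroup k M)) (R K : Submodule k M) (hRK : R ≤ K) :
    Subgroup (LinearMap.GeneralLinearGroup k M) where
  carrier := {g | g ∈ G ∧ Lay R K 1 g}
  one_mem' := ⟨one_mem G, lay_one⟩
  mul_mem' := fun {a b} ha hb => ⟨mul_mem ha.1 hb.1, by simpa using ha.2.mul hRK hb.2⟩
  inv_mem' := fun {a} ha => ⟨inv_mem ha.1, ha.2.inv hRK⟩

theorem Lay.conj (hRK : R ≤ K) {c : k} {g x : GLM} (h : Lay R K c g)
    (hR : ∀ r ∈ R, ((x⁻¹ : GLM) : End') r ∈ R) (hK : ∀ v ∈ K, ((x⁻¹ : GLM) : End') v ∈ K)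
    (hR' : ∀ r ∈ R, (x : End') r ∈ R) (hK' : ∀ v ∈ K, (x : End') v ∈ K) :
    Lay R K c (x * g * x⁻¹) := by
  have cancel : ∀ y : M, (x : End') (((x⁻¹ : GLM) : End') y) = y := fun y => by
    rw [← Module.End.mul_apply, Units.mul_inv, Module.End.one_apply]
  refine ⟨fun r hr => ?_, fun v hv => ?_, fun m => ?_⟩ <;>
    simp only [Units.val_mul, Module.End.mul_apply]
  · rw [h.1 _ (hR r hr), map_smul, cancel]
  · have := hR' _ (h.2.1 _ (hK v hv))
    rwa [map_sub, cancel] at this
  · have := hK' _ (h.2.2 (((x⁻¹ : GLM) : End') m))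
    rwa [map_sub, map_smul, cancel] at this

theorem isPGroup_layCore {p : ℕ} [hp : Fact p.Prime] [CharP k p] (hp2 : p ≠ 2) (hRK : R ≤ K) :
    IsPGroup p (layCore G R K hRK) := by
  rintro ⟨g, -, h1, h2, h3⟩
  refine ⟨1, Subtype.ext ?_⟩
  rw [Subgroup.coe_pow, pow_one, Subgroup.coe_one]
  set d := dm g with hd
  have dap : ∀ m, d m = (g : End') m - m := fun m => rfl
  have dR : ∀ r ∈ R, d r = 0 := fun r hr => by rw [dap, h1 r hr, one_smul, sub_self]
  have d3 : ∀ m, d (d (d m)) = 0 := fun m => dR _ (by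
    rw [dap (d m)]
    refine h2 _ ?_
    have := h3 m
    rwa [inv_one, one_smul, ← dap] at this)
  have hpow : ∀ (n : ℕ) (m : M),
      ((g ^ n : GLM) : End') m = m + n • d m + (n.choose 2) • d (d m) := by
    intro n
    induction n with
    | zero => intro m; simp
    | succ n ih =>
      intro m
      rw [pow_succ', Units.val_mul, Module.End.mul_apply, ih]
      have hg : ∀ y : M, (g : End') y = y + d y := fun y => by rw [dap]; abel
      rw [hg, map_add, map_add, map_nsmul, map_nsmul, d3, smul_zero, add_zero, Nat.choose_succ_succ,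
        Nat.choose_one_right, succ_nsmul, add_nsmul]
      abel
  refine Units.ext (LinearMap.ext fun m => ?_)
  have hchar : ∀ (n : ℕ) (y : M), p ∣ n → n • y = 0 := fun n y hn => by
    rw [← Nat.cast_smul_eq_nsmul k, (CharP.cast_eq_zero_iff k p n).mpr hn, zero_smul]
  rw [hpow, hchar p _ dvd_rfl, add_zero,
    hchar (p.choose 2) _ (hp.out.dvd_choose_self two_ne_zero
      (lt_of_le_of_ne hp.out.two_le (Ne.symm hp2))), add_zero, Units.val_one, Module.End.one_apply]

theorem IsTorEnd.lay {a t : End'} (h : Dual a t) {l : k} {g : GLM}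
    (hg : IsTorEnd a t l (g : End')) : Lay (LinearMap.range a) (LinearMap.ker a) l g := by
  refine ⟨fun r hr => hg.apply_range h hr, fun v hv => ?_, fun m => ?_⟩
  · have hat : (g : End') v - v = (l - 1) • (a * t) v := by
      have e : (g : End') - 1 = (l - 1) • (a * t) + (l⁻¹ - 1) • (t * a) := by
        rw [hg, e0, sub_smul, sub_smul, one_smul, one_smul]; abel
      have := DFunLike.congr_fun e v
      rw [LinearMap.sub_apply, Module.End.one_apply, LinearMap.add_apply, LinearMap.smul_apply,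
        LinearMap.smul_apply, Module.End.mul_apply t a, LinearMap.mem_ker.mp hv, map_zero, smul_zero,
        add_zero] at this
      exact this
    rw [hat]
    exact Submodule.smul_mem _ _ (LinearMap.mem_range_self a _)
  · rw [LinearMap.mem_ker]
    have e : a * (g : End') = l⁻¹ • a := by
      rw [hg, mul_add, mul_add, h.a_e0, mul_smul_comm, mul_smul_comm, ← mul_assoc, ← mul_assoc,
        h.sqa, h.ata, zero_mul, smul_zero, zero_add, zero_add]
    rw [map_sub, map_smul, ← Module.End.mul_apply, e, LinearMap.smul_apply, sub_self]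

theorem IsTorEnd.pow {a t : End'} (h : Dual a t) {l : k} {x : End'} (hx : IsTorEnd a t l x) :
    ∀ n : ℕ, IsTorEnd a t (l ^ n) (x ^ n)
  | 0 => by rw [pow_zero, pow_zero]; exact .one
  | n + 1 => by rw [pow_succ, pow_succ]; exact (IsTorEnd.pow h hx n).mul h hx

theorem IsTorEnd.cjE {a t : End'} {l : k} {g : GLM} (hg : IsTorEnd a t l (g : End')) (x : GLM) :
    IsTorEnd (CfsgLib.QuadPair.cjE x a) (CfsgLib.QuadPair.cjE x t) l
      ((x * g * x⁻¹ : GLM) : End') := by
  unfold IsTorEnd e0 at *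
  rw [← cjE_mul, ← cjE_mul, show ((x * g * x⁻¹ : GLM) : End') = CfsgLib.QuadPair.cjE x (g : End') from rfl,
    hg, cjE_add, cjE_add, cjE_smul, cjE_smul, cjE_sub, cjE_sub]
  congr 4
  simp [CfsgLib.QuadPair.cjE]

/-- The torus elements attached to the class of `s`. -/
def IsTor (s : Module.End k M) (hs : s * s = 0) (G : Subgroup (LinearMap.GeneralLinearGroup k M))
    (l : k) (g : LinearMap.GeneralLinearGroup k M) : Prop :=
  g ∈ G ∧ ∃ a t, a ∈ cls G hs ∧ a ≠ 0 ∧ Min G t ∧ Dual a t ∧ IsTorEnd a t l (g : Module.End k M)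

variable {s : Module.End k M}

theorem isTor_lay (hs : Min G s) {l : k} {g : GLM} (hg : IsTor s hs.sq G l g) :
    Lay (LinearMap.range s) (LinearMap.ker s) l g := by
  obtain ⟨-, a, t, ha, ha0, -, hd, he⟩ := hg
  obtain ⟨-, hk, hr⟩ := cls_spec hs ha ha0
  rw [← hk, ← hr]
  exact he.lay hd

theorem range_le_ker (hs : Min G s) : LinearMap.range s ≤ LinearMap.ker s := by
  rintro _ ⟨v, rfl⟩
  exact DFunLike.congr_fun hs.sq v

/-- Elements stabilizing the layers preserve the class. -/
theorem cjE_mem_cls (hs : Min G s) {x : GLM}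
    (hxG : ∀ g, g ∈ G ↔ x * g * x⁻¹ ∈ G)
    (hR : ∀ r ∈ LinearMap.range s, (x : End') r ∈ LinearMap.range s)
    (hK : ∀ v ∈ LinearMap.ker s, ((x⁻¹ : GLM) : End') v ∈ LinearMap.ker s)
    {a : End'} (ha : a ∈ cls G hs.sq) : cjE x a ∈ cls G hs.sq := by
  obtain ⟨⟨hsq, hfam⟩, hk, hr⟩ := ha
  refine ⟨⟨cjE_sq x hsq, fun c => ?_⟩, fun v hv => ?_, ?_⟩
  · rw [← cjE_smul, el_cjE x (smul_sq hsq c)]
    exact (hxG _).mp (hfam c)
  · have := LinearMap.mem_ker.mp (hk (hK v hv))
    simp [LinearMap.mem_ker, cjE, this]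
  · rintro _ ⟨v, rfl⟩
    exact hR _ (hr (LinearMap.mem_range_self _ _))

theorem isTor_conj (hs : Min G s) {l : k} {g : GLM} (hg : IsTor s hs.sq G l g) {x : GLM}
    (hxG : ∀ g, g ∈ G ↔ x * g * x⁻¹ ∈ G)
    (hR : ∀ r ∈ LinearMap.range s, (x : End') r ∈ LinearMap.range s)
    (hK : ∀ v ∈ LinearMap.ker s, ((x⁻¹ : GLM) : End') v ∈ LinearMap.ker s) :
    IsTor s hs.sq G l (x * g * x⁻¹) := by
  obtain ⟨hgG, a, t, ha, ha0, ht, hd, he⟩ := hg
  have hne : ∀ {b : End'}, b ≠ 0 → cjE x b ≠ 0 := fun {b} hb h => hb (by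
    rw [← cjE_inv_cjE x b, h, cjE_zero])
  refine ⟨(hxG g).mp hgG, cjE x a, cjE x t, cjE_mem_cls hs hxG hR hK ha, hne ha0, ?_, hd.cjE x, he.cjE x⟩
  refine ht.of_rk_le ⟨cjE_sq x ht.sq, fun c => ?_⟩ (hne ht.2.1) (rk_cjE x t).le
  rw [← cjE_smul, el_cjE x (smul_sq ht.sq c)]
  exact (hxG _).mp (ht.1.2 c)

/-- A torus element determines the root subgroup opposite to that of `s`. -/
theorem root_of_isTor {a t a' t' : End'} (hd : Dual a t) (hd' : Dual a' t') (ht : Min G t)
    (ht' : Min G t') {l : k} (hl : l ≠ 0) (hl2 : l ^ 2 ≠ 1) {x : End'} (hx : IsTorEnd a t l x)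
    (hx' : IsTorEnd a' t' l x) : root G t = root G t' := by
  obtain ⟨e1, e2⟩ := hx.unique hd hd' hl hl2 hx'
  refine root_eq_of_ker_range ht' ht ?_ ?_
  all_goals
    have i1 : ∀ v, t v = (t * a) (t v) := fun v => (DFunLike.congr_fun hd.tat v).symm
    have i2 : ∀ v, t' v = (t' * a') (t' v) := fun v => (DFunLike.congr_fun hd'.tat v).symm
    have j1 : ∀ v, t v = t ((a * t) v) := fun v => (DFunLike.congr_fun hd.tat v).symm
    have j2 : ∀ v, t' v = t' ((a' * t') v) := fun v => (DFunLike.congr_fun hd'.tat v).symm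
  · ext v
    simp only [LinearMap.mem_ker]
    constructor <;> intro hv
    · rw [j2, ← e1, Module.End.mul_apply, hv, map_zero, map_zero]
    · rw [j1, e1, Module.End.mul_apply, hv, map_zero, map_zero]
  · ext v
    constructor <;> rintro ⟨w, rfl⟩
    · rw [i1, e2, Module.End.mul_apply]; exact LinearMap.mem_range_self _ _
    · rw [i2, ← e2, Module.End.mul_apply]; exact LinearMap.mem_range_self _ _

variable [Finite k] {p : ℕ} [hp : Fact p.Prime] [CharP k p]

/-- A coprime group stabilizing the layers of `s` fixes a root subgroup opposite to that of `s`. -/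
theorem exists_fixed_opp (hp5 : 5 ≤ p) (hs : Min G s) (hex : ∃ t, Min G t ∧ Opp s t)
    {B : Subgroup GLM} (hBG : ∀ x ∈ B, ∀ g, g ∈ G ↔ x * g * x⁻¹ ∈ G)
    (hcop : (Nat.card B).Coprime (Nat.card G))
    (hR : ∀ x ∈ B, ∀ r ∈ LinearMap.range s, (x : End') r ∈ LinearMap.range s)
    (hK : ∀ x ∈ B, ∀ v ∈ LinearMap.ker s, (x : End') v ∈ LinearMap.ker s) :
    ∃ t, Min G t ∧ Opp s t ∧ ∀ x ∈ B, conjBy (root G t) x = root G t := by
  classical
  haveI : Finite M := Module.finite_of_finite k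
  haveI : Finite (Module.End k M) := Finite.of_injective _ DFunLike.coe_injective
  haveI : Finite GLM := Finite.of_injective _ Units.val_injective
  have h2 : (2 : k) ≠ 0 := fun e => by
    have : ((2 : ℕ) : k) = 0 := by simpa using e
    have := Nat.le_of_dvd two_pos ((CharP.cast_eq_zero_iff k p 2).mp this)
    omega
  have h3 : Nat.card k ≠ 3 := fun e => by
    have hpd : p ∣ Nat.card k := by
      have := Fintype.ofFinite k
      rw [Nat.card_eq_fintype_card, ← CharP.cast_eq_zero_iff k p]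
      simp
    rw [e] at hpd
    have := Nat.le_of_dvd (by norm_num) hpd
    omega
  set l : k := 2 with hl
  have hl2 : l ^ 2 ≠ 1 := fun e => by
    have : ((3 : ℕ) : k) = 0 := by
      push_cast
      linear_combination e
    have := Nat.le_of_dvd (by norm_num) ((CharP.cast_eq_zero_iff k p 3).mp this)
    omega
  have hRK := range_le_ker hs
  set Q := layCore G (LinearMap.range s) (LinearMap.ker s) hRK with hQ
  have hQp : IsPGroup p Q := isPGroup_layCore (by omega) hRK
  obtain ⟨t₁, ht₁, ho₁⟩ := hex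
  obtain ⟨t', ht', ht'0, hd'⟩ := exists_dual h2 h3 hs ht₁ ho₁
  obtain ⟨ht'm, -, -⟩ := cls_spec ht₁ ht' ht'0
  set h₀ := tor s t' l with hh₀
  have hT₀ : IsTor s hs.sq G l h₀ :=
    ⟨tor_mem hs.1 ht'm.1 l, s, t', self_mem_cls hs, hs.2.1, ht'm, hd', coe_tor hd' h2⟩
  -- the elements of `Q` stabilize the layers
  have qR : ∀ q ∈ Q, ∀ r ∈ LinearMap.range s, (q : End') r ∈ LinearMap.range s :=
    fun q hq r hr => hq.2.mapR hr
  have qK : ∀ q ∈ Q, ∀ v ∈ LinearMap.ker s, (q : End') v ∈ LinearMap.ker s :=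
    fun q hq v hv => hq.2.mapK hRK hv
  have qG : ∀ q ∈ Q, ∀ g, g ∈ G ↔ q * g * q⁻¹ ∈ G := fun q hq g =>
    ⟨fun hg => mul_mem (mul_mem hq.1 hg) (inv_mem hq.1), fun hg => by
      have := mul_mem (mul_mem (inv_mem hq.1) hg) hq.1
      simpa [mul_assoc] using this⟩
  -- all torus elements are conjugate under `Q`
  set N := Fintype.ofFinite k
  have hpow : l ^ (Fintype.card k - 1) = 1 := FiniteField.pow_card_sub_one_eq_one l h2
  have hordN : ∀ {g : GLM}, IsTor s hs.sq G l g → g ^ (Fintype.card k - 1) = 1 := by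
    rintro g ⟨-, a, t, -, -, -, hd, he⟩
    refine Units.ext ?_
    have := he.pow hd (Fintype.card k - 1)
    rw [hpow] at this
    rw [Units.val_pow_eq_pow_val, Units.val_one, this]
    exact (IsTorEnd.one).symm
  have hcopN : p.Coprime (Fintype.card k - 1) := by
    refine hp.out.coprime_iff_not_dvd.mpr fun hd => ?_
    have hpd : p ∣ Fintype.card k := by rw [← CharP.cast_eq_zero_iff k p]; simp
    have h1 : 1 ≤ Fintype.card k := Fintype.card_pos
    have := Nat.dvd_sub hpd hd
    rw [Nat.sub_sub_self h1] at this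
    exact hp.out.not_dvd_one this
  have hcopz : ∀ {g : GLM}, IsTor s hs.sq G l g →
      (Nat.card Q).Coprime (Nat.card (Subgroup.zpowers g)) := by
    intro g hg
    obtain ⟨j, hj⟩ := hQp.exists_card_eq
    rw [hj, Nat.card_zpowers]
    exact (hcopN.coprime_dvd_right (orderOf_dvd_of_pow_eq_one (hordN hg))).pow_left _
  have hnorm : ∀ {g : GLM}, IsTor s hs.sq G l g → Subgroup.zpowers g ≤ Subgroup.normalizer (Q : Set GLM) := by
    intro g hg
    have hLay := isTor_lay hs hg
    have hL' : ∀ {x : GLM}, x ∈ G → (∀ r ∈ LinearMap.range s, (x : End') r ∈ LinearMap.range s) →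
        (∀ v ∈ LinearMap.ker s, (x : End') v ∈ LinearMap.ker s) →
        (∀ r ∈ LinearMap.range s, ((x⁻¹ : GLM) : End') r ∈ LinearMap.range s) →
        (∀ v ∈ LinearMap.ker s, ((x⁻¹ : GLM) : End') v ∈ LinearMap.ker s) →
        ∀ q ∈ Q, x * q * x⁻¹ ∈ Q :=
      fun {x} hx a b c d q hq => ⟨mul_mem (mul_mem hx hq.1) (inv_mem hx), hq.2.conj hRK c d a b⟩
    have invW : ∀ (W : Submodule k M), (∀ w ∈ W, (g : End') w ∈ W) → ∀ w ∈ W, ((g⁻¹ : GLM) : End') w ∈ W := by
      intro W hW w hw
      have hN : g⁻¹ = g ^ (Fintype.card k - 1 - 1) := by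
        refine inv_eq_of_mul_eq_one_right ?_
        rw [← pow_succ', Nat.sub_add_cancel, hordN hg]
        have := Fintype.one_lt_card (α := k)
        omega
      rw [hN, Units.val_pow_eq_pow_val]
      clear hN
      generalize Fintype.card k - 1 - 1 = n
      induction n with
      | zero => simpa using hw
      | succ n ih => rw [pow_succ', Module.End.mul_apply]; exact hW _ ih
    have gR := invW _ fun r hr => hLay.mapR hr
    have gK := invW _ fun v hv => hLay.mapK hRK hv
    rw [Subgroup.zpowers_le, Subgroup.mem_normalizer_iff]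
    intro q
    refine ⟨hL' hg.1 (fun r hr => hLay.mapR hr) (fun v hv => hLay.mapK hRK hv) gR gK q, fun hq => ?_⟩
    have := hL' (inv_mem hg.1) gR gK (by rw [inv_inv]; exact fun r hr => hLay.mapR hr)
      (by rw [inv_inv]; exact fun v hv => hLay.mapK hRK hv) _ hq
    simpa [mul_assoc] using this
  have hconj : ∀ {g g' : GLM}, IsTor s hs.sq G l g → IsTor s hs.sq G l g' →
      ∃ q ∈ Q, q * g * q⁻¹ = g' := by
    intro g g' hg hg'
    have hrel : g⁻¹ * g' ∈ Q := by
      refine ⟨mul_mem (inv_mem hg.1) hg'.1, ?_⟩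
      have hinv : Lay (LinearMap.range s) (LinearMap.ker s) l⁻¹ g⁻¹ := by
        obtain ⟨-, a, t, ha, ha0, -, hd, he⟩ := hg
        obtain ⟨-, hk, hr⟩ := cls_spec hs ha ha0
        rw [← hk, ← hr]
        refine IsTorEnd.lay hd ?_
        have h1 : IsTorEnd a t l⁻¹ (tor a t l⁻¹ : End') := coe_tor hd (inv_ne_zero h2)
        have h3 : g * tor a t l⁻¹ = 1 := Units.ext (by
          have := he.mul hd h1
          rw [mul_inv_cancel₀ h2] at this
          rw [Units.val_mul, Units.val_one, this]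
          exact IsTorEnd.one.symm)
        rwa [inv_eq_of_mul_eq_one_right h3]
      have := hinv.mul hRK (isTor_lay hs hg')
      rwa [inv_mul_cancel₀ h2] at this
    have hsup : Q ⊔ Subgroup.zpowers g = Q ⊔ Subgroup.zpowers g' := by
      apply le_antisymm <;> refine sup_le le_sup_left ?_ <;> rw [Subgroup.zpowers_le]
      · have := mul_mem (Subgroup.mem_sup_right (S := Q) (Subgroup.mem_zpowers g'))
          (Subgroup.mem_sup_left (T := Subgroup.zpowers g') (inv_mem hrel))
        simpa [mul_assoc] using this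
      · have := mul_mem (Subgroup.mem_sup_right (S := Q) (Subgroup.mem_zpowers g))
          (Subgroup.mem_sup_left (T := Subgroup.zpowers g) hrel)
        simpa [mul_assoc] using this
    haveI : IsMulCommutative (Subgroup.zpowers g) := inferInstance
    obtain ⟨q, hq, he⟩ := Coprime.exists_conj_of_coprime (hnorm hg) (hcopz hg) (hcopz hg') hsup
      (Or.inr (Group.isSolvable_of_comm fun a b => mul_comm' a b))
    refine ⟨q, hq, ?_⟩
    have hmem : g' ∈ Subgroup.zpowers (q * g * q⁻¹) := by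
      have h := Subgroup.mem_zpowers g'
      rw [← he, Coprime.conj_smul_eq_map, MonoidHom.map_zpowers] at h
      simpa using h
    have hg1 := isTor_conj hs hg (qG q hq) (qR q hq) (fun v hv => qK q⁻¹ (inv_mem hq) v hv)
    obtain ⟨n, hn⟩ := mem_powers_iff_mem_zpowers.mpr hmem
    simp only at hn
    have hlay := isTor_lay hs hg'
    obtain ⟨-, a, t, ha, ha0, -, hd, he1⟩ := hg1
    obtain ⟨-, hk, hr⟩ := cls_spec hs ha ha0
    have hn' := he1.pow hd n
    rw [← Units.val_pow_eq_pow_val, hn] at hn'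
    obtain ⟨v, hv⟩ : ∃ v, a v ≠ 0 := by
      by_contra hcon
      push Not at hcon
      exact ha0 (LinearMap.ext hcon)
    have e1 := hn'.apply_range hd (LinearMap.mem_range_self a v)
    rw [hlay.1 _ (hr ▸ LinearMap.mem_range_self a v)] at e1
    have hln : l ^ n = l := (smul_left_injective k hv e1).symm
    rw [hln] at hn'
    exact Units.ext (he1.trans hn'.symm)
  -- a fixed point of `B`
  let p₀ : Pt GLM := ⟨h₀⟩
  have hBQ : B ≤ Subgroup.normalizer (Q : Set GLM) := by
    intro x hx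
    have key : ∀ y ∈ B, ∀ q ∈ Q, y * q * y⁻¹ ∈ Q := fun y hy q hq =>
      ⟨(hBG y hy q).mp hq.1,
        hq.2.conj hRK (hR y⁻¹ (inv_mem hy)) (hK y⁻¹ (inv_mem hy)) (hR y hy) (hK y hy)⟩
    rw [Subgroup.mem_normalizer_iff]
    intro q
    refine ⟨key x hx q, fun hq => ?_⟩
    simpa [mul_assoc] using key x⁻¹ (inv_mem hx) _ hq
  have hBh : ∀ x ∈ B, ∃ q ∈ Q, x • p₀ = q • p₀ := fun x hx => by
    obtain ⟨q, hq, e⟩ := hconj hT₀
      (isTor_conj hs hT₀ (hBG x hx) (hR x hx) (hK x⁻¹ (inv_mem hx)))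
    exact ⟨q, hq, Pt.ext e.symm⟩
  have hQG : Q ≤ G := fun q hq => hq.1
  haveI : Group.IsNilpotent Q := hQp.isNilpotent
  obtain ⟨q, hq, hfix⟩ := Coprime.exists_fixed_of_coprime hBQ
    (hcop.coprime_dvd_right (Subgroup.card_dvd_of_le hQG)) (Or.inr inferInstance) p₀ hBh
  set h₁ : GLM := q * h₀ * q⁻¹ with hh₁
  have hT₁ : IsTor s hs.sq G l h₁ :=
    isTor_conj hs hT₀ (qG q hq) (qR q hq) (qK q⁻¹ (inv_mem hq))
  obtain ⟨-, a, t, ha, ha0, ht, hd, he⟩ := hT₁
  obtain ⟨-, hk, hr⟩ := cls_spec hs ha ha0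
  refine ⟨t, ht, ?_, fun x hx => ?_⟩
  · have key : ∀ {a t : End'}, Dual a t → LinearMap.range a ⊓ LinearMap.ker t = ⊥ := by
      intro a t hd
      rw [eq_bot_iff]
      rintro _ ⟨⟨w, rfl⟩, hw⟩
      rw [Submodule.mem_bot, ← hd.ata, Module.End.mul_apply, Module.End.mul_apply]
      rw [LinearMap.mem_ker.mp hw, map_zero]
    exact ⟨hr ▸ key hd, hk ▸ key hd.symm⟩
  · have hxt : root G (cjE x t) = conjBy (root G t) x := by
      ext y
      have hmin : Min G (cjE x t) := by
        refine ht.of_rk_le ⟨cjE_sq x ht.sq, fun c => ?_⟩ (fun h => ht.2.1 (by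
          rw [← cjE_inv_cjE x t, h, cjE_zero])) (rk_cjE x t).le
        rw [← cjE_smul, el_cjE x (smul_sq ht.sq c)]
        exact (hBG x hx _).mp (ht.1.2 c)
      rw [mem_root hmin, CfsgLib.RootSub.mem_cj, mem_root ht]
      have mv : ∀ {y : GLM} {b u : End'}, (∀ g, g ∈ G → y * g * y⁻¹ ∈ G) → ∀ hu : u * u = 0,
          b ∈ cls G hu → cjE y b ∈ cls G (cjE_sq y hu) := by
        intro y b u hyG hu hb
        refine ⟨⟨cjE_sq y hb.1.1, fun c => ?_⟩, fun w hw => ?_, ?_⟩
        · rw [← cjE_smul, el_cjE y (smul_sq hb.1.1 c)]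
          exact hyG _ (hb.1.2 c)
        · have h1 : u (((y⁻¹ : GLM) : End') w) = 0 := by
            have := congrArg ((y⁻¹ : GLM) : End') (LinearMap.mem_ker.mp hw)
            simpa [cjE, ← Module.End.mul_apply, ← mul_assoc] using this
          have h4 := LinearMap.mem_ker.mp (hb.2.1 h1)
          simp [LinearMap.mem_ker, cjE, h4]
        · rw [range_cjE, range_cjE]
          exact Submodule.map_mono hb.2.2
      constructor
      · rintro ⟨b, hb, rfl⟩
        have := mv (y := x⁻¹) (fun g hg => (hBG x⁻¹ (inv_mem hx) g).mp hg) _ hb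
        simp only [cjE_inv_cjE] at this
        refine ⟨cjE x⁻¹ b, this, ?_⟩
        rw [el_cjE _ hb.1.1, inv_inv]
      · rintro ⟨b, hb, e⟩
        refine ⟨cjE x b, mv (fun g hg => (hBG x hx g).mp hg) ht.sq hb, ?_⟩
        rw [el_cjE x hb.1.1, ← e]
        group
    rw [← hxt]
    have he' := he.cjE x
    have hx1 : x * h₁ * x⁻¹ = h₁ := congrArg Pt.val (hfix x hx)
    rw [hx1] at he'
    refine root_of_isTor (hd.cjE x) hd ?_ ht h2 hl2 he' he
    refine ht.of_rk_le ⟨cjE_sq x ht.sq, fun c => ?_⟩ (fun h => ht.2.1 (by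
      rw [← cjE_inv_cjE x t, h, cjE_zero])) (rk_cjE x t).le
    rw [← cjE_smul, el_cjE x (smul_sq ht.sq c)]
    exact (hBG x hx _).mp (ht.1.2 c)

end CfsgLib.CoprimeQuad
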