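import Mathlib
import Cfsg.Agent.Lib.CoprimeQuad.Torus
import Cfsg.Agent.Lib.Jordan.CWField

/-!
A coprime group of automorphisms fixing an opposite pair of root subgroups fixes a non-trivial element
of each: the root subgroups are coordinatized by a finite special Jordan division algebra, that is by a
field, so the two-point stabilizer has at most two orbits on the non-identity elements.
-/

set_option autoImplicit false
set_option linter.unusedSectionVars false
set_option linter.style.haveILetI false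

open Cfsg CfsgLib.RootSub.Unip CfsgLib.QuadPair

namespace CfsgLib.CoprimeQuad

universe u v

variable {k : Type u} [Field k] {M : Type v} [AddCommGroup M] [Module k M] [FiniteDimensional k M]
variable {G : Subgroup (LinearMap.GeneralLinearGroup k M)}

local notation "End'" => Module.End k M
local notation "GLM" => LinearMap.GeneralLinearGroup k M

/-- The element exchanging the two sides of a dual pair. -/
noncomputable def wel (a t : Module.End k M) : LinearMap.GeneralLinearGroup k M :=
  el (-a) * el t * el (-a)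

theorem coe_wel {a t : End'} (h : Dual a t) : (wel a t : End') = e0 a t - a + t := by
  have w := h.word (c := (-1 : k)) (d := -1) (by norm_num)
  simp only [neg_smul, one_smul, sub_neg_eq_add] at w
  rw [wel]
  simp only [Units.val_mul, coe_el (neg_sq h.sqa), coe_el h.sqt, w]
  abel

theorem coe_wel_inv {a t : End'} (h : Dual a t) :
    (((wel a t)⁻¹ : GLM) : End') = e0 a t + a - t := by
  have w := h.word (c := (1 : k)) (d := 1) (by norm_num)
  simp only [one_smul] at w
  have e : (wel a t)⁻¹ = el a * el (-t) * el a := by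
    rw [wel, el_neg h.sqa, el_neg h.sqt]; group
  rw [e]
  simp only [Units.val_mul, coe_el h.sqa, coe_el (neg_sq h.sqt)]
  rw [← sub_eq_add_neg (1 : End') t, w]

theorem wel_mem {a t : End'} (ha : a ∈ Sc G) (ht : t ∈ Sc G) : wel a t ∈ G :=
  mul_mem (mul_mem (el_mem (sc_neg ha)) (el_mem ht)) (el_mem (sc_neg ha))

theorem mul_zero_of_range {x b r : End'} (hb : LinearMap.range b ≤ LinearMap.range r) (h : x * r = 0) :
    x * b = 0 := by
  refine LinearMap.ext fun v => ?_
  obtain ⟨w, hw⟩ := hb (LinearMap.mem_range_self b v)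
  rw [Module.End.mul_apply, ← hw]
  exact DFunLike.congr_fun h w

theorem mul_zero_of_ker {x b r : End'} (hb : LinearMap.ker r ≤ LinearMap.ker b) (h : r * x = 0) :
    b * x = 0 :=
  LinearMap.ext fun v => hb (show x v ∈ LinearMap.ker r from DFunLike.congr_fun h v)

/-- Members of the class of `t` are carried to that of `a`. -/
theorem cjE_wel_right {a t : End'} (h : Dual a t) {c : End'} (hk : LinearMap.ker t ≤ LinearMap.ker c)
    (hr : LinearMap.range c ≤ LinearMap.range t) : cjE (wel a t) c = -(a * c * a) := by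
  have z1 : e0 a t * c = 0 := mul_zero_of_range hr h.e0_t
  have z2 : t * c = 0 := mul_zero_of_range hr h.sqt
  have z3 : c * e0 a t = 0 := mul_zero_of_ker hk h.t_e0
  have z4 : c * t = 0 := mul_zero_of_ker hk h.sqt
  rw [cjE, coe_wel h, coe_wel_inv h]
  simp only [add_mul, sub_mul, mul_add, mul_sub, mul_assoc, z3, z4, mul_zero]
  simp only [← mul_assoc, z1, z2, zero_mul]
  abel

/-- Members of the class of `a` are carried to that of `t`. -/
theorem cjE_wel_left {a t : End'} (h : Dual a t) {b : End'} (hk : LinearMap.ker a ≤ LinearMap.ker b)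
    (hr : LinearMap.range b ≤ LinearMap.range a) : cjE (wel a t) b = -(t * b * t) := by
  have z1 : e0 a t * b = 0 := mul_zero_of_range hr h.e0_a
  have z2 : a * b = 0 := mul_zero_of_range hr h.sqa
  have z3 : b * e0 a t = 0 := mul_zero_of_ker hk h.a_e0
  have z4 : b * a = 0 := mul_zero_of_ker hk h.sqa
  rw [cjE, coe_wel h, coe_wel_inv h]
  simp only [add_mul, sub_mul, mul_add, mul_sub, mul_assoc, z3, z4, mul_zero]
  simp only [← mul_assoc, z1, z2, zero_mul]
  abel

theorem range_mul_le' (a x : End') : LinearMap.range (a * x) ≤ LinearMap.range a := by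
  rintro _ ⟨v, rfl⟩; exact LinearMap.mem_range_self _ _

theorem ker_le_mul (x a : End') : LinearMap.ker a ≤ LinearMap.ker (x * a) := fun v hv => by
  rw [LinearMap.mem_ker, Module.End.mul_apply, LinearMap.mem_ker.mp hv, map_zero]

theorem sandwich_right {a t c : End'} (h : Dual a t) (ha : a ∈ Sc G) (ht : t ∈ Sc G)
    (hc : c ∈ cls G h.sqt) : a * c * a ∈ cls G h.sqa := by
  have e := sc_cjE (wel_mem ha ht) hc.1
  rw [cjE_wel_right h hc.2.1 hc.2.2] at e
  refine ⟨by simpa using sc_neg e, ker_le_mul _ a, ?_⟩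
  rw [mul_assoc]
  exact range_mul_le' a _

theorem sandwich_left {a t b : End'} (h : Dual a t) (ha : a ∈ Sc G) (ht : t ∈ Sc G)
    (hb : b ∈ cls G h.sqa) : t * b * t ∈ cls G h.sqt := by
  have e := sc_cjE (wel_mem ha ht) hb.1
  rw [cjE_wel_left h hb.2.1 hb.2.2] at e
  refine ⟨by simpa using sc_neg e, ker_le_mul _ t, ?_⟩
  rw [mul_assoc]
  exact range_mul_le' t _

theorem expand_right {a t b : End'} (h : Dual a t) (hk : LinearMap.ker a ≤ LinearMap.ker b) :
    b * t * a = b := by
  have : b * (1 - t * a) = 0 := mul_zero_of_ker hk (by rw [mul_sub, mul_one, ← mul_assoc, h.ata, sub_self])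
  rw [mul_sub, mul_one, ← mul_assoc, sub_eq_zero] at this
  exact this.symm

theorem expand_left {a t b : End'} (h : Dual a t) (hr : LinearMap.range b ≤ LinearMap.range a) :
    a * t * b = b := by
  have : (1 - a * t) * b = 0 := mul_zero_of_range hr (by rw [sub_mul, one_mul, h.ata, sub_self])
  rw [sub_mul, one_mul, sub_eq_zero] at this
  exact this.symm

theorem dual_unique {a t t' : End'} (h : Dual a t) (h' : Dual a t')
    (hk : LinearMap.ker t ≤ LinearMap.ker t') (hr : LinearMap.range t' ≤ LinearMap.range t) : t' = t := by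
  have e1 := expand_right h.symm hk
  have e2 := expand_left h.symm hr
  calc t' = t * a * t' := e2.symm
    _ = t * a * (t' * a * t) := by rw [e1]
    _ = t * (a * t' * a) * t := by simp only [mul_assoc]
    _ = t := by rw [h'.ata, h.tat]

theorem mem_normalizer_root [Finite k] {s : End'} (hs : Min G s) {g : GLM} (hgG : g ∈ G)
    (h : ∀ b ∈ cls G hs.sq, cjE g b ∈ cls G hs.sq) : g ∈ Subgroup.normalizer (root G s : Set GLM) := by
  haveI : Finite M := Module.finite_of_finite k
  haveI : Finite (Module.End k M) := Finite.of_injective _ DFunLike.coe_injective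
  haveI : Finite GLM := Finite.of_injective _ Units.val_injective
  refine Subgroup.mem_normalizer_iff_map_conj_eq.mpr (Subgroup.eq_of_le_of_card_ge ?_
    (Subgroup.card_map_of_injective (MulAut.conj g).injective).ge)
  rintro _ ⟨x, hx, rfl⟩
  obtain ⟨b, hb, rfl⟩ := (mem_root hs).mp hx
  exact (mem_root hs).mpr ⟨_, h b hb, (el_cjE g hb.1.1).symm⟩

variable [Finite k] {p : ℕ} [hp : Fact p.Prime] [CharP k p]

/-- A coprime group fixing an opposite pair of root subgroups fixes a dual pair inside it. -/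
theorem exists_fixed_dual (hp5 : 5 ≤ p) {s t : End'} (hs : Min G s) (ht : Min G t) (ho : Opp s t)
    {B : Subgroup GLM} (hBG : ∀ x ∈ B, ∀ g, g ∈ G ↔ x * g * x⁻¹ ∈ G)
    (hcop : (Nat.card B).Coprime (Nat.card G))
    (hBs : ∀ x ∈ B, ∀ b ∈ cls G hs.sq, cjE x b ∈ cls G hs.sq)
    (hBt : ∀ x ∈ B, ∀ c ∈ cls G ht.sq, cjE x c ∈ cls G ht.sq) :
    ∃ a t', a ∈ cls G hs.sq ∧ a ≠ 0 ∧ t' ∈ cls G ht.sq ∧ Dual a t' ∧
      ∀ x ∈ B, cjE x a = a ∧ cjE x t' = t' := by
  classical
  haveI : Finite M := Module.finite_of_finite k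
  haveI : Finite (Module.End k M) := Finite.of_injective _ DFunLike.coe_injective
  haveI : Finite GLM := Finite.of_injective _ Units.val_injective
  have h2 : (2 : k) ≠ 0 := fun e => by
    have : ((2 : ℕ) : k) = 0 := by simpa using e
    have := Nat.le_of_dvd two_pos ((CharP.cast_eq_zero_iff k p 2).mp this)
    omega
  have h3 : Nat.card k ≠ 3 := fun e => by
    have hpd : p ∣ Nat.card k := by
      have := Fintype.ofFinite k
      rw [Nat.card_eq_fintype_card, ← CharP.cast_eq_zero_iff k p]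
      simp
    rw [e] at hpd
    have := Nat.le_of_dvd (by norm_num) hpd
    omega
  obtain ⟨t₀, ht₀, -, hd₀⟩ := exists_dual h2 h3 hs ht ho
  have ht₀m : t₀ ∈ Sc G := ht₀.1
  have hcls₀ : cls G hd₀.sqt = cls G ht.sq := cls_eq ht ht₀ fun e => hs.2.1 (by
    rw [← hd₀.ata, e, mul_zero, zero_mul])
  have partner : ∀ a ∈ cls G hs.sq, a ≠ 0 → ∃ ta ∈ cls G ht.sq, ta ∈ Sc G ∧ ∃ h : Dual a ta,
      cls G h.sqt = cls G ht.sq ∧ cls G h.sqa = cls G hs.sq := by
    intro a ha ha0
    obtain ⟨ta, hta, hta0, hd⟩ := exists_dual h2 h3 (cls_spec hs ha ha0).1 ht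
      ((opp_cls hs ht ha ha0 (self_mem_cls ht) ht.2.1).mpr ho)
    exact ⟨ta, hta, hta.1, hd, cls_eq ht hta hta0, cls_eq hs ha ha0⟩
  have tbt : ∀ b ∈ cls G hs.sq, t₀ * b * t₀ ∈ cls G ht.sq := fun b hb =>
    hcls₀ ▸ sandwich_left hd₀ hs.1 ht₀m hb
  have aca : ∀ a ∈ cls G hs.sq, ∀ c ∈ cls G ht.sq, a * c * a ∈ cls G hs.sq := by
    intro a ha c hc
    by_cases ha0 : a = 0
    · simp [ha0]
    obtain ⟨ta, -, hta, hd, e1, e2⟩ := partner a ha ha0
    exact e2 ▸ sandwich_right hd ha.1 hta (e1.symm ▸ hc)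
  -- the coordinates
  let R := LinearMap.range s
  have bR : ∀ b : cls G hs.sq, ∀ v ∈ R, ((b : End') * t₀) v ∈ R := fun b v _ =>
    b.2.2.2 (LinearMap.mem_range_self _ _)
  let φ : cls G hs.sq →ₗ[k] Module.End k R :=
    { toFun := fun b => ((b : End') * t₀).restrict (bR b)
      map_add' := fun a b => LinearMap.ext fun v => Subtype.ext (by
        show (((a : End') + (b : End')) * t₀) (v : M) = _
        rw [add_mul]; rfl)
      map_smul' := fun c a => LinearMap.ext fun v => Subtype.ext (by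
        show ((c • (a : End')) * t₀) (v : M) = _
        rw [smul_mul_assoc]; rfl) }
  have φap : ∀ (b : cls G hs.sq) (v : R), (φ b v : M) = (b : End') (t₀ v) := fun _ _ => rfl
  have φinj : Function.Injective φ := by
    rw [← LinearMap.ker_eq_bot, Submodule.eq_bot_iff]
    intro b hb
    refine Subtype.ext (LinearMap.ext fun v => ?_)
    rw [ZeroMemClass.coe_zero, LinearMap.zero_apply]
    conv_lhs => rw [← expand_right hd₀ b.2.2.1, Module.End.mul_apply, Module.End.mul_apply]
    have := φap b ⟨s v, LinearMap.mem_range_self _ _⟩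
    rw [LinearMap.mem_ker.mp hb, LinearMap.zero_apply, ZeroMemClass.coe_zero] at this
    exact this.symm
  have φone : φ ⟨s, self_mem_cls hs⟩ = 1 := by
    refine LinearMap.ext fun v => Subtype.ext ?_
    obtain ⟨_, w, rfl⟩ := v
    rw [φap]
    exact DFunLike.congr_fun hd₀.ata w
  have φtri : ∀ a b : cls G hs.sq,
      φ ⟨(a : End') * (t₀ * b * t₀) * a, aca a a.2 _ (tbt b b.2)⟩ = φ a * φ b * φ a := fun a b =>
    LinearMap.ext fun v => Subtype.ext rfl
  have φunit : ∀ b : cls G hs.sq, b ≠ 0 → Function.Injective (φ b) := by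
    intro b hb
    rw [← LinearMap.ker_eq_bot, Submodule.eq_bot_iff]
    intro v hv
    have h1 : (b : End') (t₀ v) = 0 := by rw [← φap, LinearMap.mem_ker.mp hv]; rfl
    have h2' : s (t₀ v) = 0 := by
      rw [← LinearMap.mem_ker, ← (cls_spec hs b.2 fun e => hb (Subtype.ext e)).2.1, LinearMap.mem_ker]
      exact h1
    obtain ⟨w, hw⟩ := v.2
    refine Subtype.ext ?_
    rw [← hw] at h2'
    have := DFunLike.congr_fun hd₀.ata w
    rw [Module.End.mul_apply, Module.End.mul_apply, h2'] at this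
    rw [ZeroMemClass.coe_zero, ← hw]
    exact this.symm
  -- a basis, and the field
  haveI : Nontrivial R := by
    rw [Submodule.nontrivial_iff_ne_bot]
    exact fun e => hs.2.1 (LinearMap.range_eq_bot.mp e)
  let bas := Module.finBasis k R
  haveI : Nonempty (Fin (Module.finrank k R)) := ⟨⟨0, Module.finrank_pos⟩⟩
  let μ := LinearMap.toMatrixAlgEquiv bas
  haveI := Fintype.ofFinite k
  let E : Submodule k (Matrix (Fin (Module.finrank k R)) (Fin (Module.finrank k R)) k) :=
    (LinearMap.range φ).map μ.toLinearMap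
  have memE : ∀ b, μ (φ b) ∈ E := fun b => ⟨φ b, LinearMap.mem_range_self φ b, rfl⟩
  have E1 : (1 : Matrix _ _ k) ∈ E := by
    have := memE ⟨s, self_mem_cls hs⟩
    rwa [φone, map_one] at this
  have Etri : ∀ a ∈ E, ∀ b ∈ E, a * b * a ∈ E := by
    rintro _ ⟨_, ⟨a, rfl⟩, rfl⟩ _ ⟨_, ⟨b, rfl⟩, rfl⟩
    have := memE ⟨(a : End') * (t₀ * b * t₀) * a, aca a a.2 _ (tbt b b.2)⟩
    rwa [φtri, map_mul, map_mul] at this
  have Edet : ∀ a ∈ E, a ≠ 0 → a.det ≠ 0 := by
    rintro _ ⟨_, ⟨b, rfl⟩, rfl⟩ hne hdet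
    have hb : b ≠ 0 := fun e => hne (by rw [e, map_zero, map_zero])
    have hu : IsUnit (φ b) := (Module.End.isUnit_iff _).mpr
      ⟨φunit b hb, LinearMap.injective_iff_surjective.mp (φunit b hb)⟩
    exact ((hu.map μ).map Matrix.detMonoidHom).ne_zero hdet
  obtain ⟨Ecomm, Emul⟩ := Jordan.CWField.commutative E E1 Etri Edet
  let F : Subring (Matrix (Fin (Module.finrank k R)) (Fin (Module.finrank k R)) k) :=
    { carrier := (E : Set _)
      one_mem' := E1
      mul_mem' := fun {a b} ha hb => Emul a ha b hb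
      zero_mem' := E.zero_mem
      add_mem' := fun {a b} => E.add_mem
      neg_mem' := fun {a} => E.neg_mem }
  letI : CommRing F := { (inferInstance : Ring F) with
    mul_comm := fun a b => Subtype.ext (Ecomm a a.2 b b.2) }
  haveI : IsDomain F := by
    haveI : Nontrivial F := ⟨⟨1, 0, fun e => one_ne_zero (congrArg Subtype.val e)⟩⟩
    haveI : NoZeroDivisors F := ⟨fun {a b} e => by
      by_contra hc
      push Not at hc
      refine Edet b b.2 (fun h => hc.2 (Subtype.ext h)) ?_
      have e' : (a : Matrix (Fin (Module.finrank k R)) (Fin (Module.finrank k R)) k) *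
          (b : Matrix (Fin (Module.finrank k R)) (Fin (Module.finrank k R)) k) = 0 := congrArg Subtype.val e
      have hu : IsUnit (a : Matrix (Fin (Module.finrank k R)) (Fin (Module.finrank k R)) k) := (Matrix.isUnit_iff_isUnit_det _).mpr
        (isUnit_iff_ne_zero.mpr (Edet a a.2 fun h => hc.1 (Subtype.ext h)))
      rw [hu.mul_right_eq_zero] at e'
      rw [e', Matrix.det_zero]⟩
    exact NoZeroDivisors.to_isDomain F
  haveI : Finite F := inferInstance
  letI : Field F := (Finite.isDomain_to_isField F).toField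
  letI := Fintype.ofFinite F
  have hFchar : ringChar F ≠ 2 := fun e => h2 (by
    haveI : CharP F 2 := ringChar.eq_iff.mp e
    have h := congrArg (fun x : F => (x : Matrix (Fin (Module.finrank k R)) (Fin (Module.finrank k R)) k)
      (Classical.arbitrary (Fin (Module.finrank k R))) (Classical.arbitrary (Fin (Module.finrank k R))))
      (CharTwo.add_self_eq_zero (1 : F))
    change ((1 : Matrix (Fin (Module.finrank k R)) (Fin (Module.finrank k R)) k) + 1) _ _ =
      (0 : Matrix (Fin (Module.finrank k R)) (Fin (Module.finrank k R)) k) _ _ at h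
    rw [Matrix.add_apply, Matrix.one_apply_eq, Matrix.zero_apply, one_add_one_eq_two] at h
    exact h)
  let ψ : cls G hs.sq → F := fun b => ⟨μ (φ b), memE b⟩
  have ψinj : Function.Injective ψ := fun a b e =>
    φinj (μ.injective (congrArg Subtype.val e))
  have ψsurj : ∀ x : F, ∃ b, ψ b = x := by
    rintro ⟨_, _, ⟨b, rfl⟩, rfl⟩
    exact ⟨b, rfl⟩
  have ψone : ψ ⟨s, self_mem_cls hs⟩ = 1 := Subtype.ext (by
    show μ (φ _) = 1
    rw [φone, map_one])
  -- the two-point stabilizer
  set T := G ⊓ Subgroup.normalizer (root G s : Set GLM) ⊓ Subgroup.normalizer (root G t : Set GLM) with hT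
  have move : ∀ (a b b' : cls G hs.sq), a ≠ 0 → ψ b' = ψ a * ψ b * ψ a →
      ∃ g ∈ T, cjE g (b : End') = b' := by
    intro a b b' ha hb'
    obtain ⟨ta, -, htaS, hd, e1, e2⟩ := partner a a.2 fun e => ha (Subtype.ext e)
    have comp1 : ∀ x ∈ cls G hs.sq, cjE (wel (a : End') ta * wel s t₀) x =
        (a : End') * (t₀ * x * t₀) * a := by
      intro x hx
      have hx' := e1.symm ▸ tbt x hx
      rw [← cjE_cjE, cjE_wel_left hd₀ hx.2.1 hx.2.2,
        cjE_wel_right hd (neg_mem hx').2.1 (neg_mem hx').2.2, mul_neg, neg_mul, neg_neg]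
    have comp2 : ∀ x ∈ cls G ht.sq, cjE (wel (a : End') ta * wel s t₀) x ∈ cls G ht.sq := by
      intro x hx
      have h1 : s * x * s ∈ cls G hs.sq := aca s (self_mem_cls hs) x hx
      have h1' := e2.symm ▸ h1
      rw [← cjE_cjE, cjE_wel_right hd₀ (hcls₀.symm ▸ hx).2.1 (hcls₀.symm ▸ hx).2.2,
        cjE_wel_left hd (neg_mem h1').2.1 (neg_mem h1').2.2, mul_neg, neg_mul, neg_neg]
      exact e1 ▸ sandwich_left hd a.2.1 htaS h1'
    have hgG : wel (a : End') ta * wel s t₀ ∈ G := mul_mem (wel_mem a.2.1 htaS) (wel_mem hs.1 ht₀m)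
    refine ⟨_, ⟨⟨hgG, mem_normalizer_root hs hgG fun x hx => ?_⟩, mem_normalizer_root ht hgG comp2⟩, ?_⟩
    · rw [comp1 x hx]; exact aca a a.2 _ (tbt x hx)
    · rw [comp1 b b.2]
      have : ψ ⟨(a : End') * (t₀ * b * t₀) * a, aca a a.2 _ (tbt b b.2)⟩ = ψ b' := by
        rw [hb']
        refine Subtype.ext ?_
        show μ (φ _) = μ (φ a) * μ (φ b) * μ (φ a)
        rw [φtri, map_mul, map_mul]
      exact congrArg Subtype.val (ψinj this)
  let p₀ : Pt GLM := ⟨el s⟩
  let P : GLM → Prop := fun x => ∃ g ∈ T, x • p₀ = g • p₀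
  have hBT : B ≤ Subgroup.normalizer (T : Set GLM) := by
    have key : ∀ {r : End'} (hr : Min G r), (∀ x ∈ B, ∀ b ∈ cls G hr.sq, cjE x b ∈ cls G hr.sq) →
        ∀ x ∈ B, x ∈ Subgroup.normalizer (root G r : Set GLM) := by
      intro r hr hB x hx
      refine Subgroup.mem_normalizer_iff_map_conj_eq.mpr (Subgroup.eq_of_le_of_card_ge ?_
        (Subgroup.card_map_of_injective (MulAut.conj x).injective).ge)
      rintro _ ⟨y, hy, rfl⟩
      obtain ⟨b, hb, rfl⟩ := (mem_root hr).mp hy
      exact (mem_root hr).mpr ⟨_, hB x hx b hb, (el_cjE x hb.1.1).symm⟩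
    intro x hx
    have inN : ∀ {r : End'} (hr : Min G r), (∀ x ∈ B, ∀ b ∈ cls G hr.sq, cjE x b ∈ cls G hr.sq) →
        ∀ g, g ∈ Subgroup.normalizer (root G r : Set GLM) ↔
          x * g * x⁻¹ ∈ Subgroup.normalizer (root G r : Set GLM) := fun hr hB g => by
      have hxN := key hr hB x hx
      refine ⟨fun hg => mul_mem (mul_mem hxN hg) (inv_mem hxN), fun hg => ?_⟩
      simpa [mul_assoc] using mul_mem (mul_mem (inv_mem hxN) hg) hxN
    rw [Subgroup.mem_normalizer_iff]
    intro g
    rw [hT]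
    simp only [Subgroup.mem_inf]
    rw [← hBG x hx g, ← inN hs hBs g, ← inN ht hBt g]
  have imgB : ∀ x ∈ B, ∃ b : cls G hs.sq, b ≠ 0 ∧ (x • p₀).val = el (b : End') := fun x hx =>
    ⟨⟨cjE x s, hBs x hx s (self_mem_cls hs)⟩, fun e => hs.2.1 (by
      rw [← cjE_inv_cjE x s, show cjE x s = 0 from congrArg Subtype.val e, cjE_zero]),
      (el_cjE x hs.sq).symm⟩
  have ψne : ∀ {b : cls G hs.sq}, b ≠ 0 → ψ b ≠ 0 := fun {b} hb e => hb (ψinj (by
    rw [e]
    refine (Subtype.ext ?_).symm
    show μ (φ 0) = 0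
    rw [map_zero, map_zero]))
  have link : ∀ b b' : cls G hs.sq, b ≠ 0 → b' ≠ 0 → (IsSquare (ψ b) ↔ IsSquare (ψ b')) →
      ∃ g ∈ T, cjE g (b : End') = b' := by
    intro b b' hb hb' hiff
    have hsq : IsSquare (ψ b' / ψ b) := by
      by_cases h : IsSquare (ψ b)
      · exact (hiff.mp h).div h
      · have h' : ¬ IsSquare (ψ b') := fun h' => h (hiff.mpr h')
        have hinv : ¬ IsSquare (ψ b)⁻¹ := fun hh => h (by simpa using hh.inv)
        rw [← quadraticChar_neg_one_iff_not_isSquare] at h' hinv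
        rw [← quadraticChar_one_iff_isSquare (div_ne_zero (ψne hb') (ψne hb)), div_eq_mul_inv, map_mul,
          h', hinv]
        norm_num
    obtain ⟨y, hy⟩ := hsq
    obtain ⟨a, rfl⟩ := ψsurj y
    refine move a b b' (fun e => ?_) ?_
    · have hz : ψ a = 0 := by
        refine Subtype.ext ?_
        show μ (φ a) = 0
        rw [e, map_zero, map_zero]
      rw [hz, mul_zero, div_eq_zero_iff] at hy
      exact hy.elim (ψne hb') (ψne hb)
    · rw [div_eq_iff (ψne hb)] at hy
      rw [hy]; ring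
  have sne : (⟨s, self_mem_cls hs⟩ : cls G hs.sq) ≠ 0 := fun e => hs.2.1 (congrArg Subtype.val e)
  have sqP : ∀ x ∈ B, ∀ b : cls G hs.sq, b ≠ 0 → (x • p₀).val = el (b : End') → IsSquare (ψ b) → P x := by
    intro x hx b hb e hsq
    obtain ⟨g, hg, hge⟩ := link ⟨s, self_mem_cls hs⟩ b sne hb
      ⟨fun _ => hsq, fun _ => ψone.symm ▸ IsSquare.one⟩
    exact ⟨g, hg, Pt.ext (by rw [e, pt_smul, ← el_cjE g hs.sq]; exact congrArg el hge.symm)⟩
  have Pmul : ∀ x ∈ B, ∀ y ∈ B, P x → P y → P (x * y) := by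
    rintro x hx y - ⟨g, hg, hge⟩ ⟨h, hh, hhe⟩
    refine ⟨x * h * x⁻¹ * g, mul_mem ((Subgroup.mem_normalizer_iff.mp (hBT hx) h).mp hh) hg, ?_⟩
    rw [mul_smul, hhe, mul_smul, ← hge, mul_smul, mul_smul, inv_smul_smul]
  have hPB : ∀ x ∈ B, P x := by
    intro x hx
    have hodd : Odd (orderOf x) := by
      have hG2 : 2 ∣ Nat.card G := by
        have hm1 : ((-1 : k)) ≠ 0 := neg_ne_zero.mpr one_ne_zero
        set i := tor s t₀ (-1 : k) with hi
        have hiE : IsTorEnd s t₀ (-1 : k) (i : End') := coe_tor hd₀ hm1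
        have hisq : i ^ 2 = 1 := Units.ext (by
          have := hiE.pow hd₀ 2
          rw [neg_one_sq] at this
          rw [Units.val_pow_eq_pow_val, Units.val_one, this]
          exact IsTorEnd.one.symm)
        have hne : i ≠ 1 := fun e => by
          rw [e, Units.val_one] at hiE
          obtain ⟨v, hv⟩ : ∃ v, s v ≠ 0 := by
            by_contra hc
            push Not at hc
            exact hs.2.1 (LinearMap.ext hc)
          have := hiE.apply_range hd₀ (LinearMap.mem_range_self s v)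
          rw [Module.End.one_apply, neg_smul, one_smul, eq_neg_iff_add_eq_zero, ← two_smul k] at this
          exact hv ((smul_eq_zero.mp this).resolve_left h2)
        have h1 : orderOf i = 2 := orderOf_eq_prime hisq hne
        rw [← h1, ← Subgroup.orderOf_mk i (tor_mem hs.1 ht₀m _)]
        exact orderOf_dvd_natCard _
      have h2' : ¬ 2 ∣ Nat.card B := fun h => by
        have := Nat.dvd_gcd h hG2
        rw [hcop.gcd_eq_one] at this
        exact absurd this (by norm_num)
      have hdvd : orderOf x ∣ Nat.card B := by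
        rw [← Subgroup.orderOf_mk x hx]; exact orderOf_dvd_natCard _
      exact Nat.odd_iff.mpr (Nat.two_dvd_ne_zero.mp fun h => h2' (h.trans hdvd))
    have hsq2 : P (x * x) := by
      obtain ⟨b, hb, hbe⟩ := imgB x hx
      by_cases hb2 : IsSquare (ψ b)
      · exact Pmul x hx x hx (sqP x hx b hb hbe hb2) (sqP x hx b hb hbe hb2)
      obtain ⟨c, hc, hce⟩ := imgB (x * x) (mul_mem hx hx)
      by_cases hc2 : IsSquare (ψ c)
      · exact sqP _ (mul_mem hx hx) c hc hce hc2
      · obtain ⟨g, hg, hge⟩ := link b c hb hc ⟨fun h => absurd h hb2, fun h => absurd h hc2⟩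
        have e : (x * x) • p₀ = g • x • p₀ := Pt.ext (by
          rw [hce, pt_smul, hbe, ← el_cjE g b.2.1.1, hge])
        have hx1 : P x := by
          refine ⟨x⁻¹ * g * x, ?_, ?_⟩
          · have := (Subgroup.mem_normalizer_iff.mp (hBT (inv_mem hx)) g).mp hg
            rwa [inv_inv] at this
          · rw [mul_smul, mul_smul, ← e, mul_smul, inv_smul_smul]
        exact Pmul x hx x hx hx1 hx1
    have hxpow : ∀ n : ℕ, P ((x * x) ^ n) := by
      intro n
      induction n with
      | zero => exact ⟨1, one_mem _, by rw [pow_zero]⟩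
      | succ n ih => rw [pow_succ]; exact Pmul _ (pow_mem (mul_mem hx hx) n) _ (mul_mem hx hx) ih hsq2
    obtain ⟨m, hm⟩ := hodd
    have e : (x * x) ^ (m + 1) = x := by
      rw [← pow_two, ← pow_mul, show 2 * (m + 1) = 2 * m + 1 + 1 by ring, pow_succ, ← hm,
        pow_orderOf_eq_one, one_mul]
    exact e ▸ hxpow (m + 1)
  have hsolv : Group.IsSolvable B ∨ Group.IsSolvable T := by
    by_cases h : Odd (Nat.card B)
    · exact Or.inl (OddOrder.solvable_of_odd _ B rfl h)
    · refine Or.inr (OddOrder.solvable_of_odd _ T rfl ?_)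
      rw [Nat.not_odd_iff_even, even_iff_two_dvd] at h
      rw [Nat.odd_iff, ← Nat.two_dvd_ne_zero]
      intro h'
      have := Nat.dvd_gcd h (h'.trans (Subgroup.card_dvd_of_le (inf_le_left.trans inf_le_left)))
      rw [hcop.gcd_eq_one] at this
      exact absurd this (by norm_num)
  obtain ⟨g, hg, hfix⟩ := Coprime.exists_fixed_of_coprime hBT
    (hcop.coprime_dvd_right (Subgroup.card_dvd_of_le (inf_le_left.trans inf_le_left))) hsolv p₀ hPB
  have hgN : g ∈ Subgroup.normalizer (root G s : Set GLM) := hg.1.2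
  obtain ⟨a, ha, hae⟩ := (mem_root hs).mp
    ((Subgroup.mem_normalizer_iff.mp hgN _).mp (el_mem_root hs (self_mem_cls hs)))
  have ha0 : a ≠ 0 := fun e => hs.2.1 ((el_zero_iff hs.sq).mp (by
    rw [e, el_zero] at hae
    exact conj_eq_one_iff.mp hae))
  obtain ⟨ta, hta, -, hd, e1, -⟩ := partner a ha ha0
  refine ⟨a, ta, ha, ha0, hta, hd, fun x hx => ?_⟩
  have hxa : cjE x a = a := by
    refine el_inj (cjE_sq x ha.1.1) ha.1.1 ?_
    rw [el_cjE x ha.1.1, ← hae]
    exact congrArg Pt.val (hfix x hx)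
  refine ⟨hxa, ?_⟩
  have hd' : Dual a (cjE x ta) := by have := hd.cjE x; rwa [hxa] at this
  have hm := e1.symm ▸ hBt x hx ta hta
  exact dual_unique hd hd' hm.2.1 hm.2.2

end CfsgLib.CoprimeQuad
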