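import Mathlib
import Cfsg.Agent.Lib.CoprimeQuad.Field
import Cfsg.Agent.Lib.QuadPair.Comm
import Cfsg.Agent.Lib.Fitting.Basic
import Cfsg.Agent.Lib.Offender.Involves
import Cfsg.Agent.Lib.Qd.Facts
import Cfsg.Agent.Lib.SL2.BinBasic

/-!
A coprime group of automorphisms of a linear group with trivial `p`-core and a quadratic element has
fixed points involving `PSL(2, p)`, for `p ≥ 5`.
-/

set_option autoImplicit false
set_option linter.unusedSectionVars false
set_option linter.style.haveILetI false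

open Cfsg CfsgLib.RootSub.Unip CfsgLib.QuadPair
open scoped MatrixGroups

namespace CfsgLib.CoprimeQuad

universe u v

section general

variable {k : Type u} [Field k] {M : Type v} [AddCommGroup M] [Module k M] [FiniteDimensional k M]
variable {G : Subgroup (LinearMap.GeneralLinearGroup k M)}

local notation "End'" => Module.End k M
local notation "GLM" => LinearMap.GeneralLinearGroup k M

theorem isPGroup_of_unip {p : ℕ} [Fact p.Prime] [CharP k p] {U : Subgroup GLM} (hU : IsUnipotentOn U) :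
    IsPGroup p U := by
  rcases subsingleton_or_nontrivial M with hM | hM
  · intro g
    exact ⟨0, Subtype.ext (Units.ext (LinearMap.ext fun v => Subsingleton.elim _ _))⟩
  obtain ⟨n, hn⟩ := isUnip_iff.mp hU
  haveI : CharP (Module.End k M) p := charP_of_injective_algebraMap (algebraMap k (Module.End k M)).injective p
  intro g
  obtain ⟨m, hm⟩ : ∃ m, n ≤ p ^ m := ⟨n, (n.lt_pow_self (Fact.out : p.Prime).one_lt).le⟩
  refine ⟨m, Subtype.ext (Units.ext ?_)⟩
  have h0 : dm (g : GLM) ^ n = 0 := by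
    have := hn (List.replicate n (g : GLM)) (fun x hx => (List.eq_of_mem_replicate hx) ▸ g.2)
      List.length_replicate
    rwa [List.map_replicate, List.prod_replicate] at this
  have hg : ((g : GLM) : End') = 1 + dm (g : GLM) := by simp [dm]
  rw [Subgroup.coe_pow, Subgroup.coe_one, Units.val_pow_eq_pow_val, Units.val_one, hg,
    add_pow_char_pow_of_commute (p := p) (h := Commute.one_left _), one_pow,
    pow_eq_zero_of_le hm h0, add_zero]

/-- Minimal elements have opposites when the `p`-core is trivial. -/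
theorem exists_opp_of_pCore {p : ℕ} [Fact p.Prime] [CharP k p] (h2 : (2 : k) ≠ 0) (h3 : Nat.card k ≠ 3)
    (hcore : Cfsg.pCore p ↥G = ⊥) {s : End'} (hs : Min G s) : ∃ x, Min G x ∧ Opp s x := by
  by_contra hcon
  push Not at hcon
  let W : Set (Subgroup GLM) := {A | ∃ g ∈ G, A = root G (cjE g s)}
  have hWconj : ∀ A ∈ W, ∀ h ∈ G, conjBy A h ∈ W := by
    rintro A ⟨g, hg, rfl⟩ h hh
    exact ⟨h * g, mul_mem hh hg, by rw [conj_root hh (hs.cjE hg), cjE_cjE]⟩
  have hWG : ∀ A ∈ W, A ≤ G := by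
    rintro A ⟨g, hg, rfl⟩
    exact root_le (hs.cjE hg)
  have hU : IsUnipotentOn (⨆ A ∈ W, A) := by
    refine unip_family (G := G) hWG ?_ hWconj
    rintro A ⟨g, hg, rfl⟩ B ⟨h, hh, rfl⟩
    refine unip_of_not_opp h2 h3 (hs.cjE hg) (hs.cjE hh) ((nilp_iff h2 h3 (hs.cjE hg) (hs.cjE hh)).mp ?_)
    have h1 := nilp_cjE (g := g) ((nilp_iff h2 h3 hs (hs.cjE (mul_mem (inv_mem hg) hh))).mpr
      (hcon _ (hs.cjE (mul_mem (inv_mem hg) hh))))
    rwa [cjE_cjE, mul_inv_cancel_left] at h1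
  set U := ⨆ A ∈ W, A with hUdef
  have hUG : U ≤ G := iSup₂_le hWG
  have hnorm : (U.subgroupOf G).Normal := by
    refine ⟨fun x hx g => ?_⟩
    have hle : conjBy U (g : GLM) ≤ U := by
      rw [conjBy, hUdef, Subgroup.map_iSup]
      refine iSup_le fun A => ?_
      rw [Subgroup.map_iSup]
      exact iSup_le fun hA => le_iSup₂ (f := fun A (_ : A ∈ W) => A) _ (hWconj A hA g g.2)
    exact hle ⟨(x : GLM), hx, rfl⟩
  have hle := Fitting.le_pCore hnorm
    ((isPGroup_of_unip (p := p) hU).of_equiv (Subgroup.subgroupOfEquivOfLe hUG).symm)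
  rw [hcore] at hle
  have hmem : el s ∈ U := Subgroup.mem_iSup_of_mem _ (Subgroup.mem_iSup_of_mem
    (show root G s ∈ W from ⟨1, one_mem G, by rw [cjE_one]⟩) (el_mem_root hs (self_mem_cls hs)))
  exact hs.2.1 ((el_zero_iff hs.sq).mp
    (congrArg Subtype.val (Subgroup.mem_bot.mp (hle (show (⟨el s, el_mem hs.1⟩ : G) ∈ U.subgroupOf G from hmem)))))

/-- Conjugacy in `G`. -/
def Cl (G : Subgroup (LinearMap.GeneralLinearGroup k M))
    (A B : Subgroup (LinearMap.GeneralLinearGroup k M)) : Prop := ∃ g ∈ G, conjBy A g = B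

theorem Cl.symm {A B : Subgroup GLM} (h : Cl G A B) : Cl G B A := by
  obtain ⟨g, hg, rfl⟩ := h
  exact ⟨g⁻¹, inv_mem hg, by rw [CfsgLib.RootSub.cj_cj, inv_mul_cancel, CfsgLib.RootSub.cj_one]⟩

theorem Cl.trans {A B C : Subgroup GLM} (h : Cl G A B) (h' : Cl G B C) : Cl G A C := by
  obtain ⟨g, hg, rfl⟩ := h
  obtain ⟨g', hg', rfl⟩ := h'
  exact ⟨g' * g, mul_mem hg' hg, by rw [CfsgLib.RootSub.cj_cj]⟩

theorem cl_of_opp (h2 : (2 : k) ≠ 0) (h3 : Nat.card k ≠ 3) {s t : End'} (hs : Min G s) (ht : Min G t)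
    (ho : Opp s t) : Cl G (root G s) (root G t) := by
  obtain ⟨g, hg, e, -⟩ := conj_of_opp h2 h3 hs ht ho
  exact ⟨g, hg, e⟩

theorem cl_commutator {p : ℕ} [Fact p.Prime] [CharP k p] (h2 : (2 : k) ≠ 0) (h3 : Nat.card k ≠ 3)
    (hcore : Cfsg.pCore p ↥G = ⊥) {s t : End'} (hs : Min G s) (ht : Min G t)
    (hn : IsNilpotent (s * t)) (h0 : s * t - t * s ≠ 0) :
    Cl G (root G s) (root G (s * t - t * s)) := by
  obtain ⟨-, hD⟩ := br_spec h2 hs ht hn h0
  set D := s * t - t * s with hDdef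
  obtain ⟨x, hx, ho⟩ := exists_opp_of_pCore h2 h3 hcore hD
  have last := cl_of_opp h2 h3 hx hD ho.symm
  by_cases hsx : Opp s x
  · exact (cl_of_opp h2 h3 hs hx hsx).trans last
  have hxsx : x * s * x = 0 := sts_zero h2 hx hs ((nilp_iff h2 h3 hx hs).mpr fun h => hsx h.symm)
  have hDx : x * D * x ≠ 0 := sq_ne_of_opp h2 h3 hD hx ho
  have hg := el_mem (sc_smul ht.1 (1 : k))
  have hs' := hs.cjE hg
  have htst : t * s * t = 0 := sts_zero h2 ht hs (nilp_swap hn)
  have e : cjE (el ((1 : k) • t)) s = s - D := by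
    rw [cjE_el (smul_sq ht.sq (1 : k))]
    simp only [one_smul, htst, sub_zero, hDdef]
    abel
  have o1 : Opp (cjE (el ((1 : k) • t)) s) x := by
    by_contra hno
    have hz := sts_zero h2 hx hs' ((nilp_iff h2 h3 hx hs').mpr fun h => hno h.symm)
    rw [e, mul_sub, sub_mul, hxsx, zero_sub, neg_eq_zero] at hz
    exact hDx hz
  exact ((show Cl G (root G s) (root G (cjE (el ((1 : k) • t)) s)) from ⟨_, hg, conj_root hg hs⟩).trans
    (cl_of_opp h2 h3 hs' hx o1)).trans last

/-- Root subgroups in different classes commute. -/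
theorem commute_of_not_cl {p : ℕ} [Fact p.Prime] [CharP k p] (h2 : (2 : k) ≠ 0) (h3 : Nat.card k ≠ 3)
    (hcore : Cfsg.pCore p ↥G = ⊥) {s t : End'} (hs : Min G s) (ht : Min G t)
    (hcl : ¬ Cl G (root G s) (root G t)) : ∀ x ∈ root G s, ∀ y ∈ root G t, Commute x y := by
  have hno : ¬ Opp s t := fun ho => hcl (cl_of_opp h2 h3 hs ht ho)
  have hn := (nilp_iff h2 h3 hs ht).mpr hno
  have h0 : s * t - t * s = 0 := by
    by_contra h0
    have h0' : t * s - s * t ≠ 0 := fun h => h0 (by rw [← neg_sub, h, neg_zero])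
    obtain ⟨-, hDm⟩ := br_spec h2 hs ht hn h0
    have hroot : root G (t * s - s * t) = root G (s * t - t * s) :=
      root_eq_of_mem hDm (by rw [← neg_sub (s * t)]; exact neg_mem (self_mem_cls hDm)) h0'
    have ct := cl_commutator h2 h3 hcore ht hs (nilp_swap hn) h0'
    rw [hroot] at ct
    exact hcl ((cl_commutator h2 h3 hcore hs ht hn h0).trans ct.symm)
  have hc := bot_or_all h2 h3 hs ht hno (self_mem_cls hs) hs.2.1 (self_mem_cls ht) ht.2.1 (sub_eq_zero.mp h0)
  intro x hx y hy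
  exact commutatorElement_eq_one_iff_commute.mp
    (Subgroup.mem_bot.mp (hc ▸ Subgroup.commutator_mem_commutator hx hy))

end general

/-! ### Products over the cosets of a stabilizer -/

theorem noncommProd_perm {ι H : Type*} [Fintype ι] [Monoid H] (f : ι → H) (σ : ι ≃ ι)
    (h1 : (↑(Finset.univ : Finset ι) : Set ι).Pairwise (Function.onFun Commute f))
    (h2 : (↑(Finset.univ : Finset ι) : Set ι).Pairwise (Function.onFun Commute (f ∘ σ))) :
    (Finset.univ : Finset ι).noncommProd (f ∘ σ) h2 = (Finset.univ : Finset ι).noncommProd f h1 := by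
  unfold Finset.noncommProd
  congr 1
  rw [← Multiset.map_map]
  congr 1
  exact (Multiset.Nodup.ext (Finset.univ.nodup.map σ.injective) Finset.univ.nodup).mpr fun a =>
    ⟨fun _ => Finset.mem_univ a, fun _ => Multiset.mem_map.mpr ⟨σ.symm a, Finset.mem_univ _, σ.apply_symm_apply a⟩⟩

/-- A subgroup of the image of `SL(2, p)` not killing the transvections gives a section `PSL(2, p)`. -/
theorem involves_psl_of_hom {p : ℕ} [hp : Fact p.Prime] (hp5 : 5 ≤ p) {X : Type*} [Group X]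
    (f : SL(2, ZMod p) →* X) (hf : f (SL2.up 1) ≠ 1) :
    Cfsg.Involves (Matrix.ProjectiveSpecialLinearGroup (Fin 2) (ZMod p)) X := by
  haveI : IsSimpleGroup (Matrix.ProjectiveSpecialLinearGroup (Fin 2) (ZMod p)) :=
    SL2.Bin.isSimple (by rw [Nat.card_zmod]; omega)
  set π : SL(2, ZMod p) →* Matrix.ProjectiveSpecialLinearGroup (Fin 2) (ZMod p) :=
    QuotientGroup.mk' (Subgroup.center _) with hπ
  have hπs : Function.Surjective π := QuotientGroup.mk'_surjective _
  have hker : f.ker ≤ π.ker := by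
    rcases ((MonoidHom.normal_ker f).map π hπs).eq_bot_or_eq_top with h | h
    · exact (Subgroup.map_eq_bot_iff _).mp h
    exfalso
    apply hf
    obtain ⟨n, hn, hne⟩ := (h ▸ Subgroup.mem_top (π (SL2.up 1)) : π (SL2.up 1) ∈ f.ker.map π)
    have hz : n⁻¹ * SL2.up (1 : ZMod p) ∈ Subgroup.center SL(2, ZMod p) := by
      rw [← QuotientGroup.eq]
      exact hne
    have hfn : f n = 1 := hn
    rcases SL2.eq_one_or_eq_neg_one_of_mem_center _ hz with e | e
    · rw [inv_mul_eq_one] at e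
      rw [← e, hfn]
    · rw [inv_mul_eq_iff_eq_mul] at e
      have h4 : f (SL2.up (1 : ZMod p)) = f (-1 : SL(2, ZMod p)) := by rw [e, map_mul, hfn, one_mul]
      have h5 : SL2.up (1 : ZMod p) ^ (p + 1) = SL2.up (1 : ZMod p) := by
        rw [pow_succ, SL2.up_pow, one_mul]
      have heven : Even (p + 1) := (hp.out.odd_of_ne_two (by omega)).add_one
      rw [← h5, map_pow, h4, ← map_pow, heven.neg_one_pow, map_one]
  let ψ : f.range →* Matrix.ProjectiveSpecialLinearGroup (Fin 2) (ZMod p) :=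
    f.rangeRestrict.liftOfSurjective f.rangeRestrict_surjective ⟨π, by rwa [f.ker_rangeRestrict]⟩
  refine Offender.involves_of_hom ψ fun y => ?_
  obtain ⟨x, rfl⟩ := hπs y
  exact ⟨f.rangeRestrict x,
    MonoidHom.liftOfRightInverse_comp_apply f.rangeRestrict _ _ ⟨π, by rwa [f.ker_rangeRestrict]⟩ x⟩

variable {p : ℕ} [hp : Fact p.Prime] {M : Type v} [AddCommGroup M] [Module (ZMod p) M]
  [FiniteDimensional (ZMod p) M]

local notation "GLM" => LinearMap.GeneralLinearGroup (ZMod p) M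

/-- The action on root subgroups by conjugation. -/
@[ext] structure SPt (X : Type*) [Group X] where
  /-- The subgroup. -/
  val : Subgroup X

instance sptAction (X : Type*) [Group X] : MulAction X (SPt X) where
  smul x A := ⟨conjBy A.val x⟩
  one_smul A := SPt.ext (CfsgLib.RootSub.cj_one _)
  mul_smul a b A := SPt.ext (CfsgLib.RootSub.cj_cj A.val b a).symm

/-- The main linear statement. -/
theorem involves_fixed (hp5 : 5 ≤ p) {G : Subgroup GLM} (hcore : Cfsg.pCore p ↥G = ⊥)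
    {s₀ : Module.End (ZMod p) M} (hs₀ : Min G s₀) {A : Subgroup GLM}
    (hAG : ∀ x ∈ A, ∀ g, g ∈ G ↔ x * g * x⁻¹ ∈ G) (hcop : (Nat.card A).Coprime (Nat.card G)) :
    Cfsg.Involves (Matrix.ProjectiveSpecialLinearGroup (Fin 2) (ZMod p))
      ↥(G ⊓ Subgroup.centralizer (A : Set GLM)) := by
  classical
  haveI : Finite M := Module.finite_of_finite (ZMod p)
  haveI : Finite (Module.End (ZMod p) M) := Finite.of_injective _ DFunLike.coe_injective
  haveI : Finite GLM := Finite.of_injective _ Units.val_injective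
  have h2 : (2 : ZMod p) ≠ 0 := fun e => by
    have : ((2 : ℕ) : ZMod p) = 0 := by simpa using e
    rw [ZMod.natCast_eq_zero_iff] at this
    have := Nat.le_of_dvd two_pos this
    omega
  have h3 : Nat.card (ZMod p) ≠ 3 := by rw [Nat.card_zmod]; omega
  -- the stabilizer of the class
  have cjA : ∀ x ∈ A, ∀ {r : Module.End (ZMod p) M}, Min G r → Min G (cjE x r) := by
    intro x hx r hr
    refine hr.of_rk_le ⟨cjE_sq x hr.sq, fun c => ?_⟩ (fun h => hr.2.1 (by
      rw [← cjE_inv_cjE x r, h, cjE_zero])) (rk_cjE x r).le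
    rw [← cjE_smul, el_cjE x (smul_sq hr.sq c)]
    exact (hAG x hx _).mp (hr.1.2 c)
  have clsA : ∀ x ∈ A, ∀ {r : Module.End (ZMod p) M} (hr : Min G r), ∀ b ∈ cls G hr.sq,
      cjE x b ∈ cls G (cjE_sq x hr.sq) := by
    intro x hx r hr b hb
    refine ⟨⟨cjE_sq x hb.1.1, fun c => ?_⟩, fun w hw => ?_, ?_⟩
    · rw [← cjE_smul, el_cjE x (smul_sq hb.1.1 c)]
      exact (hAG x hx _).mp (hb.1.2 c)
    · have h1 : r (((x⁻¹ : GLM) : Module.End (ZMod p) M) w) = 0 := by
        have := congrArg ((x⁻¹ : GLM) : Module.End (ZMod p) M) (LinearMap.mem_ker.mp hw)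
        simpa [cjE, ← Module.End.mul_apply, ← mul_assoc] using this
      have h4 := LinearMap.mem_ker.mp (hb.2.1 h1)
      simp [LinearMap.mem_ker, cjE, h4]
    · rw [range_cjE, range_cjE]
      exact Submodule.map_mono hb.2.2
  have rootA : ∀ x ∈ A, ∀ {r : Module.End (ZMod p) M}, Min G r →
      conjBy (root G r) x = root G (cjE x r) := by
    intro x hx r hr
    have hmin := cjA x hx hr
    refine le_antisymm ?_ fun y hy => ?_
    · rintro _ ⟨y, hy, rfl⟩
      obtain ⟨b, hb, rfl⟩ := (mem_root hr).mp hy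
      exact (mem_root hmin).mpr ⟨_, clsA x hx hr b hb, (el_cjE x hb.1.1).symm⟩
    · obtain ⟨b, hb, rfl⟩ := (mem_root hmin).mp hy
      have hb' := clsA x⁻¹ (inv_mem hx) hmin b hb
      simp only [cjE_inv_cjE] at hb'
      refine ⟨el (cjE x⁻¹ b), el_mem_root hr hb', ?_⟩
      show x * el (cjE x⁻¹ b) * x⁻¹ = el b
      rw [el_cjE _ hb.1.1]; group
  have movG : ∀ x ∈ A, ∀ {E F : Subgroup GLM}, Cl G E F → Cl G (conjBy E x) (conjBy F x) := by
    rintro x hx E _ ⟨g, hg, rfl⟩
    exact ⟨x * g * x⁻¹, (hAG x hx g).mp hg, by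
      rw [CfsgLib.RootSub.cj_cj, CfsgLib.RootSub.cj_cj]; congr 1; group⟩
  let B : Subgroup GLM :=
    { carrier := {x | x ∈ A ∧ Cl G (root G s₀) (conjBy (root G s₀) x)}
      one_mem' := ⟨one_mem A, ⟨1, one_mem G, by rw [CfsgLib.RootSub.cj_one]⟩⟩
      mul_mem' := fun {a b} ha hb => ⟨mul_mem ha.1 hb.1, by
        have := ha.2.trans (movG a ha.1 hb.2)
        rwa [CfsgLib.RootSub.cj_cj] at this⟩
      inv_mem' := fun {a} ha => ⟨inv_mem ha.1, by
        have := (movG a⁻¹ (inv_mem ha.1) ha.2).symm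
        rwa [CfsgLib.RootSub.cj_cj, inv_mul_cancel, CfsgLib.RootSub.cj_one] at this⟩ }
  have hBA : B ≤ A := fun x hx => hx.1
  have hcopB : (Nat.card B).Coprime (Nat.card G) := hcop.coprime_dvd_left (Subgroup.card_dvd_of_le hBA)
  have hsolv : Group.IsSolvable B ∨ Group.IsSolvable G := by
    by_cases h : Odd (Nat.card B)
    · exact Or.inl (OddOrder.solvable_of_odd _ B rfl h)
    · refine Or.inr (OddOrder.solvable_of_odd _ G rfl ?_)
      rw [Nat.not_odd_iff_even, even_iff_two_dvd] at h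
      rw [Nat.odd_iff, ← Nat.two_dvd_ne_zero]
      intro h'
      have := Nat.dvd_gcd h h'
      rw [hcopB.gcd_eq_one] at this
      exact absurd this (by norm_num)
  have hBN : B ≤ Subgroup.normalizer (G : Set GLM) := fun x hx =>
    Subgroup.mem_normalizer_iff.mpr (hAG x hx.1)
  obtain ⟨g₀, hg₀, hfix₀⟩ := Coprime.exists_fixed_of_coprime hBN hcopB hsolv
    (⟨root G s₀⟩ : SPt GLM) fun x hx => by
      obtain ⟨g, hg, e⟩ := hx.2
      exact ⟨g, hg, SPt.ext e.symm⟩
  -- the fixed root subgroup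
  set s := cjE g₀ s₀ with hsdef
  have hs : Min G s := hs₀.cjE hg₀
  have hcls : Cl G (root G s₀) (root G s) := ⟨g₀, hg₀, conj_root hg₀ hs₀⟩
  have hBfix : ∀ x ∈ B, conjBy (root G s) x = root G s := fun x hx => by
    have := congrArg SPt.val (hfix₀ x hx)
    change conjBy (conjBy (root G s₀) g₀) x = conjBy (root G s₀) g₀ at this
    rwa [conj_root hg₀ hs₀] at this
  have stab : ∀ {r : Module.End (ZMod p) M} (hr : Min G r), ∀ x ∈ B,
      conjBy (root G r) x = root G r → ∀ b ∈ cls G hr.sq, cjE x b ∈ cls G hr.sq := by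
    intro r hr x hx hfix b hb
    have h1 : el (cjE x b) ∈ conjBy (root G r) x := ⟨el b, el_mem_root hr hb, (el_cjE x hb.1.1).symm⟩
    rw [hfix] at h1
    obtain ⟨c, hc, e⟩ := (mem_root hr).mp h1
    rwa [el_inj (cjE_sq x hb.1.1) hc.1.1 e]
  have hR : ∀ x ∈ B, ∀ r ∈ LinearMap.range s, (x : Module.End (ZMod p) M) r ∈ LinearMap.range s := by
    intro x hx r hr
    have h1 := (stab hs x hx (hBfix x hx) s (self_mem_cls hs)).2.2
    rw [range_cjE] at h1
    exact h1 ⟨r, hr, rfl⟩
  have hK : ∀ x ∈ B, ∀ v ∈ LinearMap.ker s, (x : Module.End (ZMod p) M) v ∈ LinearMap.ker s := by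
    intro x hx v hv
    have h1 := (stab hs x⁻¹ (inv_mem hx) (hBfix _ (inv_mem hx)) s (self_mem_cls hs)).2.1 hv
    rw [LinearMap.mem_ker, cjE, Module.End.mul_apply, Module.End.mul_apply, inv_inv] at h1
    have := congrArg (x : Module.End (ZMod p) M) h1
    rwa [← Module.End.mul_apply, Units.mul_inv, Module.End.one_apply, map_zero] at this
  have hBG : ∀ x ∈ B, ∀ g, g ∈ G ↔ x * g * x⁻¹ ∈ G := fun x hx => hAG x hx.1
  obtain ⟨t, ht, ho, hBt⟩ := exists_fixed_opp hp5 hs (exists_opp_of_pCore h2 h3 hcore hs) hBG hcopB hR hK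
  obtain ⟨a, t', ha, ha0, ht', hd, hfix⟩ := exists_fixed_dual hp5 hs ht ho hBG hcopB
    (fun x hx => stab hs x hx (hBfix x hx)) (fun x hx => stab ht x hx (hBt x hx))
  have ht'0 : t' ≠ 0 := fun e => ha0 (by rw [← hd.ata, e, mul_zero, zero_mul])
  obtain ⟨ham, -, -⟩ := cls_spec hs ha ha0
  obtain ⟨htm, -, -⟩ := cls_spec ht ht' ht'0
  obtain ⟨O⟩ := opposed h2 h3 ham htm fun h => (nilp_iff h2 h3 ham htm).mp h
    ((opp_cls hs ht ha ha0 ht' ht'0).mpr ho)
  letI := O.fieldK
  letI := O.algK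
  have hτ : O.τ 1 = t' := dual_unique hd (dual_tau ham htm O) (O.τ_mem 1).2.1 (O.τ_mem 1).2.2
  let φ : SL(2, ZMod p) →* GLM := O.Φ.comp (Matrix.SpecialLinearGroup.map (algebraMap (ZMod p) O.K))
  have φu : φ (SL2.up 1) = el a := by
    rw [← O.σ_one, ← O.Φ_upm]
    refine congrArg O.Φ (sl_ext ?_ ?_ ?_ ?_) <;> simp [upm_coe, SL2.up_coe]
  have φl : φ (SL2.lo 1) = el t' := by
    rw [← hτ, ← O.Φ_lom]
    refine congrArg O.Φ (sl_ext ?_ ?_ ?_ ?_) <;> simp [lom_coe, SL2.lo_coe]
  -- the group generated by the class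
  let L : Subgroup GLM := ⨆ E ∈ {E : Subgroup GLM | Cl G (root G s₀) E}, E
  have hrootL : ∀ {E : Subgroup GLM}, Cl G (root G s₀) E → E ≤ L := fun {E} hE =>
    le_iSup₂ (f := fun E (_ : E ∈ {E : Subgroup GLM | Cl G (root G s₀) E}) => E) E hE
  have elL : el a ∈ L ∧ el t' ∈ L := ⟨hrootL hcls (el_mem_root hs ha),
    hrootL (hcls.trans (cl_of_opp h2 h3 hs ht ho)) (el_mem_root ht ht')⟩
  have φL : ∀ x, φ x ∈ L ⊓ G ⊓ Subgroup.centralizer (B : Set GLM) := by
    have htop : (L ⊓ G ⊓ Subgroup.centralizer (B : Set GLM)).comap φ = ⊤ := by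
      refine Qd.eq_top_of_up_lo ?_ ?_ <;> rw [Subgroup.mem_comap]
      · rw [φu]
        refine ⟨⟨elL.1, el_mem ham.1⟩, Subgroup.mem_centralizer_iff.mpr fun x hx => ?_⟩
        have := el_cjE x ha.1.1
        rw [(hfix x hx).1] at this
        exact eq_mul_inv_iff_mul_eq.mp this |>.symm
      · rw [φl]
        refine ⟨⟨elL.2, el_mem htm.1⟩, Subgroup.mem_centralizer_iff.mpr fun x hx => ?_⟩
        have := el_cjE x htm.sq
        rw [(hfix x hx).2] at this
        exact eq_mul_inv_iff_mul_eq.mp this |>.symm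
    exact fun x => (htop ▸ Subgroup.mem_top x : x ∈ _)
  -- different classes
  have hsep : ∀ x ∈ A, x ∉ B → ∀ y ∈ L, ∀ z ∈ L, Commute y (x * z * x⁻¹) := by
    intro x hx hxB
    have key : ∀ {E F : Subgroup GLM}, Cl G (root G s₀) E → Cl G (root G s₀) F →
        ∀ y ∈ E, ∀ z ∈ F, Commute y (x * z * x⁻¹) := by
      rintro E F ⟨g, hg, rfl⟩ ⟨g', hg', rfl⟩ y hy z hz
      rw [conj_root hg hs₀] at hy
      have hz' : x * z * x⁻¹ ∈ conjBy (conjBy (root G s₀) g') x := CfsgLib.RootSub.conj_mem_cj x hz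
      rw [conj_root hg' hs₀, rootA x hx (hs₀.cjE hg')] at hz'
      refine commute_of_not_cl h2 h3 hcore (hs₀.cjE hg) (cjA x hx (hs₀.cjE hg')) (fun hc => hxB ⟨hx, ?_⟩)
        y hy _ hz'
      rw [← conj_root hg hs₀, ← rootA x hx (hs₀.cjE hg'), ← conj_root hg' hs₀] at hc
      have h1 : Cl G (root G s₀) (conjBy (root G s₀) g) := ⟨g, hg, rfl⟩
      exact (h1.trans hc).trans (movG x hx (show Cl G (root G s₀) (conjBy (root G s₀) g') from
        ⟨g', hg', rfl⟩)).symm
    intro y hy z hz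
    have hy' : L ≤ Subgroup.centralizer ({x * z * x⁻¹} : Set GLM) := by
      refine iSup₂_le fun E hE y hy => Subgroup.mem_centralizer_singleton_iff.mpr ?_
      have hz' : L ≤ (Subgroup.centralizer ({y} : Set GLM)).comap (MulAut.conj x).toMonoidHom := by
        refine iSup₂_le fun F hF w hw => Subgroup.mem_comap.mpr
          (Subgroup.mem_centralizer_singleton_iff.mpr ?_)
        exact (key hE hF y hy w hw).eq.symm
      exact (Subgroup.mem_centralizer_singleton_iff.mp (hz' hz)).symm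
    exact (Subgroup.mem_centralizer_singleton_iff.mp (hy' hy))
  -- the norm
  let ι := ↥A ⧸ B.subgroupOf A
  let outA : ι → ↥A := fun c => Quotient.out c
  have mkout : ∀ c : ι, (QuotientGroup.mk (outA c) : ι) = c := fun c => QuotientGroup.out_eq' c
  let rep : ι → GLM := fun c => ((outA c : ↥A) : GLM)
  have hrep : ∀ c, rep c ∈ A := fun c => (outA c).2
  let fc : ι → SL(2, ZMod p) →* GLM := fun c => (MulAut.conj (rep c)).toMonoidHom.comp φ
  have hcomm : Pairwise fun c d : ι => ∀ x y, Commute (fc c x) (fc d y) := by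
    intro c d hcd x y
    have hnB : (rep c)⁻¹ * rep d ∉ B := fun h => hcd (by
      have h' : (outA c)⁻¹ * outA d ∈ B.subgroupOf A := h
      have := QuotientGroup.eq.mpr h'
      rwa [mkout, mkout] at this)
    have h1 := (hsep _ (mul_mem (inv_mem (hrep c)) (hrep d)) hnB _ (φL x).1.1 _ (φL y).1.1).map
      (MulAut.conj (rep c)).toMonoidHom
    show Commute (rep c * φ x * (rep c)⁻¹) (rep d * φ y * (rep d)⁻¹)
    simpa [mul_assoc] using h1
  haveI : Fintype ι := Fintype.ofFinite ι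
  let Φ : SL(2, ZMod p) →* GLM :=
    (MonoidHom.noncommPiCoprod fc hcomm).comp (Pi.monoidHom fun _ => MonoidHom.id _)
  have hpair : ∀ x, (↑(Finset.univ : Finset ι) : Set ι).Pairwise (Function.onFun Commute fun c => fc c x) :=
    fun x c _ d _ hcd => hcomm hcd x x
  have Φap : ∀ x, Φ x = Finset.univ.noncommProd (fun c => fc c x) (hpair x) := fun x => rfl
  have ΦG : ∀ x, Φ x ∈ G := fun x => by
    rw [Φap]
    exact Subgroup.noncommProd_mem _ _ fun c _ => (hAG (rep c) (hrep c) _).mp (φL x).1.2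
  have ΦA : ∀ x, Φ x ∈ Subgroup.centralizer (A : Set GLM) := by
    intro x
    rw [Subgroup.mem_centralizer_iff]
    intro b hb
    let σ : ι ≃ ι := MulAction.toPerm (⟨b, hb⟩ : ↥A)
    have e : ∀ c, b * fc c x * b⁻¹ = fc (σ c) x := by
      intro c
      have hq : (outA (σ c))⁻¹ * ((⟨b, hb⟩ : ↥A) * outA c) ∈ B.subgroupOf A := by
        rw [← QuotientGroup.eq, mkout]
        show σ c = (⟨b, hb⟩ : ↥A) • (QuotientGroup.mk (outA c) : ι)
        rw [mkout]
        rfl
      have hcen := Subgroup.mem_centralizer_iff.mp (φL x).2 _ hq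
      show b * (rep c * φ x * (rep c)⁻¹) * b⁻¹ = rep (σ c) * φ x * (rep (σ c))⁻¹
      have hmul : b * rep c = rep (σ c) * ((rep (σ c))⁻¹ * (b * rep c)) := (mul_inv_cancel_left _ _).symm
      calc b * (rep c * φ x * (rep c)⁻¹) * b⁻¹
          = b * rep c * φ x * (b * rep c)⁻¹ := by group
        _ = rep (σ c) * (((rep (σ c))⁻¹ * (b * rep c)) * φ x) * ((rep (σ c))⁻¹ * (b * rep c))⁻¹ *
            (rep (σ c))⁻¹ := by group
        _ = _ := by rw [show ((rep (σ c))⁻¹ * (b * rep c)) * φ x = φ x * ((rep (σ c))⁻¹ * (b * rep c)) from hcen]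
                    group
    have hconj : b * Φ x * b⁻¹ = Φ x := by
      rw [Φap]
      show (MulAut.conj b).toMonoidHom _ = _
      rw [Finset.map_noncommProd]
      have hfun : (fun c => (MulAut.conj b).toMonoidHom (fc c x)) = (fun c => fc c x) ∘ σ := funext e
      simp only [hfun]
      exact noncommProd_perm _ σ (hpair x) _
    exact mul_inv_eq_iff_eq_mul.mp hconj
  let f : SL(2, ZMod p) →* ↥(G ⊓ Subgroup.centralizer (A : Set GLM)) :=
    Φ.codRestrict _ fun x => ⟨ΦG x, ΦA x⟩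
  refine involves_psl_of_hom hp5 f fun h => ?_
  have h' : Φ (SL2.up 1) = 1 := congrArg Subtype.val h
  rw [Φap] at h'
  let c₀ : ι := ((1 : ↥A) : ι)
  rw [← Finset.mul_noncommProd_erase _ (Finset.mem_univ c₀), mul_eq_one_iff_eq_inv] at h'
  have hc₀ : rep c₀ ∈ B := by
    have := QuotientGroup.eq.mp (mkout c₀).symm
    rw [inv_one, one_mul] at this
    exact this
  have hfix₀' : ∀ x, fc c₀ x = φ x := fun x => by
    show rep c₀ * φ x * (rep c₀)⁻¹ = φ x
    rw [Subgroup.mem_centralizer_iff.mp (φL x).2 _ hc₀, mul_inv_cancel_right]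
  have hcen : Commute (φ (SL2.up 1)) (φ (SL2.lo 1)) := by
    rw [← hfix₀' (SL2.up 1), h']
    refine Commute.inv_left ?_
    refine Finset.noncommProd_commute _ _ _ _ (fun c hc => ?_) |>.symm
    rw [← hfix₀' (SL2.lo 1)]
    exact hcomm (Finset.ne_of_mem_erase hc).symm _ _
  rw [φu, φl] at hcen
  have hat : a * t' = t' * a := by
    have := congrArg (fun g : GLM => (g : Module.End (ZMod p) M)) hcen.eq
    simp only [Units.val_mul, coe_el ha.1.1, coe_el htm.sq, mul_add, add_mul, one_mul, mul_one] at this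
    linear_combination (norm := abel) this
  exact ha0 (by rw [← hd.ata, hat, mul_assoc, hd.sqa, mul_zero])

end CfsgLib.CoprimeQuad
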