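import Mathlib
import Cfsg.Agent.Lib.CoprimeQuad.Linear
import Cfsg.Agent.Lib.ZJ.Core
import Cfsg.Agent.Lib.PSolvable.Omega
import Cfsg.Agent.Lib.Quadratic.Groups
import Cfsg.Agent.Lib.Coprime.Action
import Cfsg.Agent.Lib.Signalizer.Radical

/-!
For `p ≥ 5`: quadratic elements of a normal subgroup `Q` outside `opMod` force a section `PSL(2, p)` in
the centralizer in `Q` of a coprime subgroup.
-/

set_option autoImplicit false
set_option linter.unusedSectionVars false
set_option linter.style.haveILetI false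

open Cfsg CfsgLib.RootSub.Unip CfsgLib.QuadPair
open scoped commutatorElement IsMulCommutative

namespace CfsgLib.CoprimeQuad

universe u

variable {p : ℕ} [hp : Fact p.Prime]

/-- An action by additive endomorphisms of a module over `ZMod p`, as a linear one. -/
def toEnd {X : Type*} [Group X] {V : Type*} [AddCommGroup V] [Module (ZMod p) V]
    (φ : X →* AddMonoid.End V) : X →* Module.End (ZMod p) V where
  toFun g :=
    { toFun := fun v => φ g v
      map_add' := fun v w => map_add (φ g) v w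
      map_smul' := fun c v => ZMod.map_smul (φ g) c v }
  map_one' := by ext v; show φ 1 v = v; rw [map_one]; rfl
  map_mul' g h := by ext v; show φ (g * h) v = φ g (φ h v); rw [map_mul]; rfl

/-- The corresponding map into the general linear group. -/
def toGL {X : Type*} [Group X] {V : Type*} [AddCommGroup V] [Module (ZMod p) V]
    (φ : X →* AddMonoid.End V) : X →* LinearMap.GeneralLinearGroup (ZMod p) V :=
  (toEnd φ).toHomUnits

theorem toGL_apply {X : Type*} [Group X] {V : Type*} [AddCommGroup V] [Module (ZMod p) V]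
    (φ : X →* AddMonoid.End V) (g : X) (v : V) :
    (toGL (p := p) φ g).val v = φ g v := rfl

/-- `O_p(G / C(V))` is trivial for a minimal normal `p`-subgroup `V`. -/
theorem opMod_le_centralizer {X : Type u} [Group X] [Finite X] (V : Subgroup X) [V.Normal]
    (hV : IsPGroup p V) (hne : V ≠ ⊥)
    (hmin : ∀ N : Subgroup X, N.Normal → N ≤ V → N = ⊥ ∨ N = V) :
    ZJ.opMod p V ≤ Subgroup.centralizer (V : Set X) := by
  set D := ZJ.opMod p V with hD
  haveI : D.Normal := ZJ.opMod_normal p V
  obtain ⟨P⟩ := (inferInstance : Nonempty (Sylow p D))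
  set P' := (P : Subgroup D).map D.subtype with hP'
  have hnil : Group.IsNilpotent ↥(V ⊔ P') := (hV.to_sup_of_normal_left (P.2.map _)).isNilpotent
  have hlt : ⁅V, P'⁆ < V := Coprime.commutator_lt_of_isNilpotent (X := V ⊔ P') le_sup_left
    le_sup_right Subgroup.le_normalizer_of_normal hne
  -- `D` acts as `P'`
  have hDle : ⁅V, D⁆ ≤ ⁅V, P'⁆ := by
    refine Subgroup.commutator_le.mpr fun v hv d hd => ?_
    have hsplit : ∃ x ∈ P', ∃ c ∈ Subgroup.centralizer (V : Set X), x * c = d := by
      set C := (Subgroup.centralizer (V : Set X)).subgroupOf D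
      haveI : C.Normal := inferInstance
      have htop : (P : Subgroup D) ⊔ C = ⊤ := by
        apply Subgroup.index_eq_one.mp
        refine Nat.eq_one_of_dvd_coprimes ?_ (Subgroup.index_dvd_of_le le_sup_left)
          (Subgroup.index_dvd_of_le le_sup_right)
        have hq : IsPGroup p (D ⧸ C) := by
          rintro ⟨g⟩
          obtain ⟨k, hk⟩ := ZJ.exists_pow_mem_centralizer V g.2
          refine ⟨k, ?_⟩
          show (QuotientGroup.mk g : D ⧸ C) ^ p ^ k = 1
          rw [← QuotientGroup.mk_pow, QuotientGroup.eq_one_iff]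
          exact hk
        obtain ⟨j, hj⟩ := hq.exists_card_eq
        rw [← Subgroup.index_eq_card] at hj
        rw [hj]
        exact ((hp.out.coprime_iff_not_dvd.mpr P.not_dvd_index).pow_left j).symm
      have hm : (⟨d, hd⟩ : D) ∈ (P : Subgroup D) ⊔ C := htop ▸ Subgroup.mem_top _
      rw [← SetLike.mem_coe, Subgroup.mul_normal] at hm
      obtain ⟨x, hx, c, hc, e⟩ := Set.mem_mul.mp hm
      exact ⟨x, ⟨x, hx, rfl⟩, c, hc, congrArg Subtype.val e⟩
    obtain ⟨x, hx, c, hc, rfl⟩ := hsplit
    have hcv : c * v⁻¹ * c⁻¹ = v⁻¹ := by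
      rw [← (hc _ (inv_mem hv) : v⁻¹ * c = c * v⁻¹), mul_inv_cancel_right]
    have e : ⁅v, x * c⁆ = ⁅v, x⁆ := by
      rw [commutatorElement_def, commutatorElement_def]
      calc v * (x * c) * v⁻¹ * (x * c)⁻¹ = v * x * (c * v⁻¹ * c⁻¹) * x⁻¹ := by group
        _ = v * x * v⁻¹ * x⁻¹ := by rw [hcv]
    rw [e]
    exact Subgroup.commutator_mem_commutator hv hx
  rcases hmin ⁅V, D⁆ inferInstance (hDle.trans hlt.le) with h | h
  · intro d hd
    rw [Subgroup.mem_centralizer_iff]
    exact fun v hv => (commutatorElement_eq_one_iff_mul_comm.mp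
      (Subgroup.mem_bot.mp (h ▸ Subgroup.commutator_mem_commutator hv hd)))
  · exact absurd (le_of_eq_of_le h.symm hDle) hlt.not_ge

/-- A minimal normal `p`-subgroup is elementary abelian. -/
theorem isElementaryAbelian_of_minimal {X : Type u} [Group X] [Finite X] (V : Subgroup X) [V.Normal]
    (hV : IsPGroup p V) (hne : V ≠ ⊥)
    (hmin : ∀ N : Subgroup X, N.Normal → N ≤ V → N = ⊥ ∨ N = V) :
    Cfsg.IsElementaryAbelian p V := by
  obtain ⟨hcom, hpow⟩ := PSolvable.commutator_le_frattini hV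
  set Φ := (frattini ↥V).map V.subtype with hΦ
  have hbot : Φ = ⊥ := by
    refine (hmin Φ (PSolvable.normal_map_of_characteristic V _) (Subgroup.map_subtype_le _)).resolve_right
      fun h => ?_
    have h1 : frattini ↥V = ⊤ := by
      apply Subgroup.map_injective V.subtype_injective
      rw [← MonoidHom.range_eq_map, Subgroup.range_subtype]
      exact h
    exact hne (le_bot_iff.mp fun x hx => by
      have : (⊥ : Subgroup ↥V) = ⊤ := frattini_nongenerating (by rw [h1, bot_sup_eq])
      have h2 : (⟨x, hx⟩ : V) ∈ (⊥ : Subgroup ↥V) := this ▸ Subgroup.mem_top _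
      exact congrArg Subtype.val (Subgroup.mem_bot.mp h2))
  have hone : ∀ {z : V}, z ∈ frattini ↥V → (z : X) = 1 := fun {z} hz =>
    Subgroup.mem_bot.mp (hbot ▸ Subgroup.mem_map_of_mem V.subtype hz : (z : X) ∈ (⊥ : Subgroup X))
  refine ⟨⟨⟨fun x y => Subtype.ext ?_⟩⟩, fun v hv => hone (hpow ⟨v, hv⟩)⟩
  exact commutatorElement_eq_one_iff_mul_comm.mp
    (hone (hcom (Subgroup.commutator_mem_commutator (Subgroup.mem_top x) (Subgroup.mem_top y))))

/-- The linear step, for an action with no normal `p`-subgroup of `Q` outside the kernel. -/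
theorem involves_of_action (hp5 : 5 ≤ p) {X : Type*} [Group X] [Finite X] (Q A : Subgroup X) [Q.Normal]
    (hcop : (Nat.card A).Coprime (Nat.card Q)) (hsolv : Group.IsSolvable A ∨ Group.IsSolvable Q)
    {V : Type*} [AddCommGroup V] [Finite V] [Module (ZMod p) V] (φ : X →* AddMonoid.End V)
    (hcoreφ : ∀ D : Subgroup X, D.Normal → D ≤ Q → (∀ d ∈ D, ∃ k : ℕ, φ (d ^ p ^ k) = 1) →
      ∀ d ∈ D, φ d = 1)
    {a : X} (haQ : a ∈ Q) (hq : (φ a - 1) * (φ a - 1) = 0) (ha : φ a ≠ 1) :
    Cfsg.Involves (Matrix.ProjectiveSpecialLinearGroup (Fin 2) (ZMod p))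
      ↥(Q ⊓ Subgroup.centralizer (A : Set X)) := by
  classical
  haveI : FiniteDimensional (ZMod p) V := Module.Finite.of_finite
  set ρ : X →* LinearMap.GeneralLinearGroup (ZMod p) V := toGL φ with hρdef
  have hρ : ∀ (g : X) (v : V), (ρ g).val v = φ g v := fun g v => toGL_apply φ g v
  have hker : ∀ g, ρ g = 1 ↔ φ g = 1 := fun g =>
    ⟨fun h => AddMonoidHom.ext fun v => (hρ g v).symm.trans
      (DFunLike.congr_fun (congrArg Units.val h) v),
      fun h => Units.ext (LinearMap.ext fun v => (hρ g v).trans (DFunLike.congr_fun h v))⟩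
  set G := Q.map ρ with hG
  set A' := A.map ρ with hA'
  have hGn : ∀ (w : X) (y : LinearMap.GeneralLinearGroup (ZMod p) V),
      y ∈ G ↔ ρ w * y * (ρ w)⁻¹ ∈ G := by
    intro w y
    constructor
    · rintro ⟨q, hq', rfl⟩
      exact ⟨w * q * w⁻¹, Subgroup.Normal.conj_mem inferInstance _ hq' _, by simp⟩
    · rintro ⟨q, hq', he⟩
      exact ⟨w⁻¹ * q * w, by simpa using Subgroup.Normal.conj_mem inferInstance _ hq' w⁻¹, by
        simp [he, mul_assoc]⟩
  have hcore : Cfsg.pCore p ↥G = ⊥ := by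
    haveI : (Cfsg.pCore p ↥G).Characteristic := Signalizer.pCore_characteristic p
    set P := (Cfsg.pCore p ↥G).map G.subtype with hP
    set D := P.comap ρ ⊓ Q with hDdef
    haveI hDn : D.Normal := by
      refine ⟨fun d hd g => ⟨?_, Subgroup.Normal.conj_mem inferInstance _ hd.2 g⟩⟩
      show ρ (g * d * g⁻¹) ∈ P
      rw [map_mul, map_mul, map_inv]
      have hn' : ρ g ∈ Subgroup.normalizer (P : Set (LinearMap.GeneralLinearGroup (ZMod p) V)) := by
        refine PSolvable.le_normalizer_map_of_characteristic (A := ρ.range) ?_ _ ⟨g, rfl⟩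
        rintro _ ⟨w, rfl⟩
        exact Subgroup.mem_normalizer_iff.mpr (hGn w)
      exact (Subgroup.mem_normalizer_iff.mp hn' _).mp hd.1
    have hone := hcoreφ D hDn inf_le_right fun d hd => by
      obtain ⟨k, hk⟩ := ((Fitting.pCore_isPGroup p).map G.subtype) ⟨ρ d, hd.1⟩
      refine ⟨k, (hker _).mp ?_⟩
      rw [map_pow]
      exact congrArg Subtype.val hk
    rw [eq_bot_iff]
    intro y hy
    obtain ⟨q, hq', he⟩ := y.2
    have hqD : q ∈ D := ⟨show ρ q ∈ P from he ▸ Subgroup.mem_map_of_mem G.subtype hy, hq'⟩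
    refine Subgroup.mem_bot.mpr (Subtype.ext ?_)
    rw [← he, Subgroup.coe_one, hker]
    exact hone q hqD
  set s := dm (ρ a) with hs
  have hsap : ∀ v, s v = φ a v - v := fun v => by rw [← hρ]; rfl
  have hsq : s * s = 0 := by
    refine LinearMap.ext fun v => ?_
    rw [Module.End.mul_apply, hsap, hsap]
    exact DFunLike.congr_fun hq v
  have hp0 : ρ a ≠ 1 := fun h => ha ((hker a).mp h)
  have hSc : s ∈ Sc G := by
    refine ⟨hsq, fun c => ?_⟩
    have hel : el s = ρ a := el_dm hsq
    have hpow : ∀ m : ℕ, el ((m : ZMod p) • s) = (ρ a) ^ m := by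
      intro m
      induction m with
      | zero => rw [Nat.cast_zero, zero_smul, el_zero, pow_zero]
      | succ m ih =>
        rw [pow_succ, ← ih, ← hel,
          el_add (smul_sq hsq _) hsq (by rw [smul_mul_assoc, hsq, smul_zero])
            (by rw [mul_smul_comm, hsq, smul_zero]), Nat.cast_succ, add_smul, one_smul]
    obtain ⟨m, rfl⟩ := ZMod.natCast_zmod_surjective c
    rw [hpow]
    exact pow_mem (Subgroup.mem_map_of_mem ρ haQ) m
  obtain ⟨s₀, hs₀⟩ : ∃ s₀, Min G s₀ := by
    have hex : ∃ m, ∃ t ∈ Sc G, t ≠ 0 ∧ rk t = m := ⟨_, s, hSc, fun h => hp0 (by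
      rw [← el_dm hsq, ← hs, h, el_zero]), rfl⟩
    obtain ⟨t, ht, h0, hr⟩ := Nat.find_spec hex
    exact ⟨t, ht, h0, fun w hw hw0 => hr.le.trans (Nat.find_min' hex ⟨w, hw, hw0, rfl⟩)⟩
  have hAG : ∀ x ∈ A', ∀ g, g ∈ G ↔ x * g * x⁻¹ ∈ G := by
    rintro _ ⟨w, -, rfl⟩ y
    exact hGn w y
  have h := involves_fixed hp5 hcore hs₀ hAG
    ((hcop.coprime_dvd_left (Subgroup.card_map_dvd A ρ)).coprime_dvd_right (Subgroup.card_map_dvd Q ρ))
  rw [hG, hA', ← Coprime.map_inf_centralizer Subgroup.le_normalizer_of_normal hcop hsolv ρ] at h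
  exact Offender.involves_of_surjective _ (ρ.subgroupMap_surjective _) h

theorem involves_of_action' (hp5 : 5 ≤ p) {X : Type*} [Group X] [Finite X] (Q A : Subgroup X) [Q.Normal]
    (hcop : (Nat.card A).Coprime (Nat.card Q)) (hsolv : Group.IsSolvable A ∨ Group.IsSolvable Q)
    {V : Type*} [AddCommGroup V] [Finite V] (hV : ∀ v : V, p • v = 0) (φ : X →* AddMonoid.End V)
    (hcoreφ : ∀ D : Subgroup X, D.Normal → D ≤ Q → (∀ d ∈ D, ∃ k : ℕ, φ (d ^ p ^ k) = 1) →
      ∀ d ∈ D, φ d = 1)
    {a : X} (haQ : a ∈ Q) (hq : (φ a - 1) * (φ a - 1) = 0) (ha : φ a ≠ 1) :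
    Cfsg.Involves (Matrix.ProjectiveSpecialLinearGroup (Fin 2) (ZMod p))
      ↥(Q ⊓ Subgroup.centralizer (A : Set X)) :=
  haveI := AddCommGroup.zmodModule hV
  involves_of_action hp5 Q A hcop hsolv φ hcoreφ haQ hq ha

/-- Conjugation on a normal commutative subgroup. -/
noncomputable def actTop {X : Type*} [Group X] (V : Subgroup X) [IsMulCommutative V] [V.Normal] :
    X →* AddMonoid.End (Additive V) :=
  (Quadratic.act V ⊤ Subgroup.le_normalizer_of_normal).comp Subgroup.topEquiv.symm.toMonoidHom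

theorem actTop_eq_one_iff {X : Type*} [Group X] (V : Subgroup X) [IsMulCommutative V] [V.Normal] (g : X) :
    actTop V g = 1 ↔ g ∈ Subgroup.centralizer (V : Set X) :=
  Quadratic.act_eq_one_iff V ⊤ Subgroup.le_normalizer_of_normal ⟨g, Subgroup.mem_top g⟩

theorem actTop_quadratic {X : Type*} [Group X] (V : Subgroup X) [IsMulCommutative V] [V.Normal] {a : X}
    (hq : ⁅⁅V, Subgroup.zpowers a⁆, Subgroup.zpowers a⁆ = ⊥) :
    (actTop V a - 1) * (actTop V a - 1) = 0 :=
  Quadratic.act_quadratic V ⊤ Subgroup.le_normalizer_of_normal (a := ⟨a, Subgroup.mem_top a⟩) hq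

/-- The main reduction. -/
theorem involves_of_notMem_opMod (hp5 : 5 ≤ p) (n : ℕ) :
    ∀ {X : Type u} [Group X] [Finite X] (Q A : Subgroup X) [Q.Normal],
      (Nat.card A).Coprime (Nat.card Q) → ∀ (W : Subgroup X) [W.Normal], IsPGroup p W →
      Nat.card W = n → ∀ a ∈ Q, ⁅⁅W, Subgroup.zpowers a⁆, Subgroup.zpowers a⁆ = ⊥ →
      a ∉ ZJ.opMod p W →
      Cfsg.Involves (Matrix.ProjectiveSpecialLinearGroup (Fin 2) (ZMod p))
        ↥(Q ⊓ Subgroup.centralizer (A : Set X)) := by
  induction n using Nat.strong_induction_on with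
  | _ n IH =>
  intro X _ _ Q A _ hcop W _ hW hn a haQ hq ha
  classical
  have hW1 : W ≠ ⊥ := fun h => ha (ZJ.centralizer_le_opMod p W fun x hx => by
    subst h
    rw [SetLike.mem_coe, Subgroup.mem_bot] at hx
    rw [hx, one_mul, mul_one])
  obtain ⟨V, hVW, ⟨hVn, hV1⟩, hVmin⟩ :=
    exists_minimal_le_of_wellFoundedLT (fun N : Subgroup X => N.Normal ∧ N ≠ ⊥) W ⟨inferInstance, hW1⟩
  haveI := hVn
  have hmin : ∀ N : Subgroup X, N.Normal → N ≤ V → N = ⊥ ∨ N = V := fun N hN hNV =>
    or_iff_not_imp_left.mpr fun h => le_antisymm hNV (hVmin ⟨hN, h⟩ hNV)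
  have hVp : IsPGroup p V := hW.to_le hVW
  have hAn : A ≤ Subgroup.normalizer (Q : Set X) := Subgroup.le_normalizer_of_normal
  have hsolv : Group.IsSolvable A ∨ Group.IsSolvable Q := by
    by_cases h : Odd (Nat.card A)
    · exact Or.inl (OddOrder.solvable_of_odd _ A rfl h)
    · refine Or.inr (OddOrder.solvable_of_odd _ Q rfl ?_)
      rw [Nat.not_odd_iff_even, even_iff_two_dvd] at h
      rw [Nat.odd_iff, ← Nat.two_dvd_ne_zero]
      intro h'
      have := Nat.dvd_gcd h h'
      rw [hcop.gcd_eq_one] at this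
      exact absurd this (by norm_num)
  by_cases haV : a ∈ ZJ.opMod p V
  · -- pass to the quotient by `V`
    set π := QuotientGroup.mk' V with hπ
    have hπs : Function.Surjective π := QuotientGroup.mk'_surjective V
    haveI : (W.map π).Normal := Subgroup.Normal.map inferInstance π hπs
    haveI : (Q.map π).Normal := Subgroup.Normal.map inferInstance π hπs
    have hlt : Nat.card (W.map π) < n := by
      have h1 := Subgroup.card_map_dvd W π
      refine lt_of_le_of_ne (hn ▸ Nat.le_of_dvd Nat.card_pos h1) fun h => hV1 ?_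
      rw [eq_bot_iff]
      intro v hv
      have hinj : Function.Injective (π.subgroupMap W) :=
        ((π.subgroupMap_surjective W).bijective_of_nat_card_le (hn.trans h.symm).le).1
      have := @hinj ⟨v, hVW hv⟩ 1 (Subtype.ext (by
        rw [map_one]; exact (QuotientGroup.eq_one_iff v).mpr hv))
      exact congrArg Subtype.val this
    have hbad : π a ∉ ZJ.opMod p (W.map π) := by
      intro hmem
      refine ha ?_
      haveI := ZJ.opMod_normal (G := X) p V
      haveI := ZJ.opMod_normal p (W.map π)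
      refine ZJ.le_opMod W (ZJ.opMod p V ⊓ (ZJ.opMod p (W.map π)).comap π) (fun d hd => ?_) ⟨haV, hmem⟩
      obtain ⟨i, hi⟩ := ZJ.exists_pow_mem_centralizer V hd.1
      obtain ⟨j, hj⟩ := ZJ.exists_pow_mem_centralizer (W.map π) hd.2
      obtain ⟨e, he⟩ := hVp.exists_card_eq
      set z := d ^ p ^ (i + j) with hz
      have hzV : z ∈ Subgroup.centralizer (V : Set X) := by
        rw [hz, pow_add, pow_mul]; exact pow_mem hi _
      have hzW : π z ∈ Subgroup.centralizer ((W.map π : Subgroup (X ⧸ V)) : Set (X ⧸ V)) := by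
        rw [hz, add_comm, pow_add, pow_mul, map_pow, map_pow]; exact pow_mem hj _
      refine ⟨i + j + e, fun x hx => ?_⟩
      set v := z * x * z⁻¹ * x⁻¹ with hv
      have hvV : v ∈ V := by
        have hcm := hzW (π x) (Subgroup.mem_map_of_mem π hx)
        rw [← QuotientGroup.eq_one_iff, ← QuotientGroup.mk'_apply, ← hπ, map_mul, map_mul, map_mul,
          map_inv, map_inv, ← hcm, mul_inv_cancel_right, mul_inv_cancel]
      have hzv : Commute z v := ((Subgroup.mem_centralizer_iff.mp hzV) v hvV).symm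
      have hiter : ∀ m : ℕ, z ^ m * x * (z ^ m)⁻¹ = v ^ m * x := by
        intro m
        induction m with
        | zero => simp
        | succ m ih =>
          calc z ^ (m + 1) * x * (z ^ (m + 1))⁻¹ = z * (z ^ m * x * (z ^ m)⁻¹) * z⁻¹ := by
                rw [pow_succ' z m, mul_inv_rev]; group
            _ = (z * v ^ m) * x * z⁻¹ := by rw [ih]; group
            _ = v ^ m * (z * x * z⁻¹) := by rw [(hzv.pow_right m).eq]; group
            _ = v ^ (m + 1) * x := by rw [pow_succ, hv]; group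
      have hv1 : v ^ p ^ e = 1 := by
        rw [← he]
        exact congrArg Subtype.val (pow_card_eq_one' (x := (⟨v, hvV⟩ : V)))
      have h1 := hiter (p ^ e)
      rw [hv1, one_mul, mul_inv_eq_iff_eq_mul] at h1
      rw [pow_add, pow_mul, ← hz]
      exact h1.symm
    have hq' : ⁅⁅W.map π, Subgroup.zpowers (π a)⁆, Subgroup.zpowers (π a)⁆ = ⊥ := by
      rw [← MonoidHom.map_zpowers π a, ← Subgroup.map_commutator, ← Subgroup.map_commutator, hq,
        Subgroup.map_bot]
    have h := IH _ hlt (Q.map π) (A.map π)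
      ((hcop.coprime_dvd_left (Subgroup.card_map_dvd A π)).coprime_dvd_right (Subgroup.card_map_dvd Q π))
      (W.map π) (hW.map π) rfl (π a) (Subgroup.mem_map_of_mem π haQ) hq' hbad
    rw [← Coprime.map_inf_centralizer hAn hcop hsolv π] at h
    exact Offender.involves_of_surjective _ (π.subgroupMap_surjective _) h
  -- `V` is the required module
  have hVe := isElementaryAbelian_of_minimal V hVp hV1 hmin
  haveI := hVe.1
  have hqV : ⁅⁅V, Subgroup.zpowers a⁆, Subgroup.zpowers a⁆ = ⊥ :=
    le_bot_iff.mp (hq ▸ Subgroup.commutator_mono (Subgroup.commutator_mono hVW le_rfl) le_rfl)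
  refine involves_of_action' hp5 Q A hcop hsolv (Quadratic.act_nsmul hVe) (actTop V)
    (fun D hD _ hpow d hd => ?_) haQ (actTop_quadratic V hqV)
    fun h => haV (ZJ.centralizer_le_opMod p V ((actTop_eq_one_iff V a).mp h))
  haveI := hD
  refine (actTop_eq_one_iff V d).mpr (opMod_le_centralizer V hVp hV1 hmin (ZJ.le_opMod V D (fun x hx => ?_) hd))
  obtain ⟨k, hk⟩ := hpow x hx
  exact ⟨k, (actTop_eq_one_iff V _).mp hk⟩

end CfsgLib.CoprimeQuad
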